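import Groth.Agent.HensLine.Ring
import Groth.Agent.Hensel.Local
import Mathlib

/-!
# Finite extensions of the base of the henselised line
-/

set_option autoImplicit false
set_option linter.style.haveILetI false
set_option backward.isDefEq.respectTransparency false
set_option synthInstance.maxHeartbeats 400000
set_option maxHeartbeats 1000000

universe u

open IsLocalRing Polynomial
open scoped TensorProduct

attribute [-instance] MvPowerSeries.instAlgebra MvPowerSeries.instModule

namespace Groth.Agent.HensLine

variable (A : Type u) [CommRing A] [HenselianLocalRing A]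
  (R : Type u) [CommRing R] [IsLocalRing R] [Algebra (Localization.AtPrime (origin A)) R]
  [IsLocalHom (algebraMap (Localization.AtPrime (origin A)) R)]
  [hR : _root_.Hensel.IsHenselization (Localization.AtPrime (origin A)) R]
  [Algebra A R] (hAR : ∀ a, algebraMap A R a = fromPoly A R (C a))
  (A' : Type u) [CommRing A'] [IsLocalRing A'] [Algebra A A'] [Algebra.IsIntegral A A']
  [IsLocalHom (algebraMap A A')]

/-- The coordinate map of the extended line. -/
noncomputable def coordMap : A'[X] →+* R ⊗[A] A' :=
  Polynomial.eval₂RingHom (Algebra.TensorProduct.includeRight : A' →ₐ[A] R ⊗[A] A').toRingHom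
    (fromPoly A R X ⊗ₜ 1)

theorem coordMap_C (a : A') : coordMap A R A' (C a) = 1 ⊗ₜ a := by
  simp [coordMap]

theorem coordMap_X : coordMap A R A' X = fromPoly A R X ⊗ₜ 1 := by simp [coordMap]

include hAR in
theorem coordMap_map (q : A[X]) : coordMap A R A' (q.map (algebraMap A A')) = fromPoly A R q ⊗ₜ 1 := by
  have h : (coordMap A R A').comp (Polynomial.mapRingHom (algebraMap A A')) =
      (Algebra.TensorProduct.includeLeftRingHom : R →+* R ⊗[A] A').comp (fromPoly A R) := by
    refine Polynomial.ringHom_ext (fun a => ?_) ?_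
    · simp only [RingHom.comp_apply, Polynomial.coe_mapRingHom, Polynomial.map_C, coordMap_C,
        Algebra.TensorProduct.includeLeftRingHom_apply]
      rw [← hAR, Algebra.algebraMap_eq_smul_one (A := A'), Algebra.algebraMap_eq_smul_one (A := R),
        TensorProduct.smul_tmul]
    · simp [coordMap_X]
  exact RingHom.congr_fun h q

include hR hAR in
/-- The extended line is the henselisation of the line over the extension. -/
theorem exists_henselization_baseChange :
    ∃ (_ : IsLocalRing (R ⊗[A] A')) (_ : Algebra (Localization.AtPrime (origin A')) (R ⊗[A] A'))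
      (_ : IsLocalHom (algebraMap (Localization.AtPrime (origin A')) (R ⊗[A] A')))
      (_ : _root_.Hensel.IsHenselization (Localization.AtPrime (origin A')) (R ⊗[A] A')),
      fromPoly A' (R ⊗[A] A') = coordMap A R A' := by
  classical
  haveI : HenselianLocalRing R := _root_.Hensel.IsHenselization.henselian (R := Localization.AtPrime (origin A))
  haveI : HenselianLocalRing A' := Hensel.henselianLocalRing_finite A A'
  let D := R ⊗[A] A'
  -- a retraction to the extension
  obtain ⟨g₀, hg₀⟩ := exists_lift A R (T := A') ((algebraMap A A').comp Polynomial.constantCoeff) fun q => by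
    rw [mem_origin_iff, notMem_maximalIdeal, RingHom.comp_apply, isUnit_map_iff]
    rfl
  have hg₀A : ∀ a, g₀ (algebraMap A R a) = algebraMap A A' a := fun a => by
    rw [hAR]
    exact (RingHom.congr_fun hg₀ (C a)).trans (by simp)
  let r : D →+* A' := (Algebra.TensorProduct.lift ({ g₀ with commutes' := hg₀A } : R →ₐ[A] A') (AlgHom.id A A')
    fun _ _ => mul_comm _ _).toRingHom
  have hr : ∀ x a, r (x ⊗ₜ a) = g₀ x * a := fun x a => Algebra.TensorProduct.lift_tmul _ _ _ _ _
  have hdec : ∀ d : D, ∃ a' : A', d - 1 ⊗ₜ a' ∈ (maximalIdeal R).map (algebraMap R D) := by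
    intro d
    induction d using TensorProduct.induction_on with
    | zero => exact ⟨0, by simp⟩
    | tmul x a' =>
      obtain ⟨a, ha⟩ := exists_sub_mem A R x
      refine ⟨a • a', ?_⟩
      rw [← TensorProduct.smul_tmul, ← Algebra.algebraMap_eq_smul_one, hAR, ← TensorProduct.sub_tmul]
      rw [show (x - fromPoly A R (C a)) ⊗ₜ[A] a' = (1 ⊗ₜ a') * algebraMap R D (x - fromPoly A R (C a)) by
        simp [D, Algebra.TensorProduct.tmul_mul_tmul]]
      exact Ideal.mul_mem_left _ _ (Ideal.mem_map_of_mem _ ha)
    | add y z hy hz =>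
      obtain ⟨a, ha⟩ := hy
      obtain ⟨b, hb⟩ := hz
      exact ⟨a + b, by rw [TensorProduct.tmul_add, add_sub_add_comm]; exact Ideal.add_mem _ ha hb⟩
  haveI : Nontrivial D := r.domain_nontrivial
  have hmax : ∀ M : Ideal D, M.IsMaximal → ∀ d : D, d ∈ M ↔ r d ∈ maximalIdeal A' := by
    intro M hM
    have h1 : (maximalIdeal R).map (algebraMap R D) ≤ M := by
      rw [Ideal.map_le_iff_le_comap]
      haveI : (M.comap (algebraMap R D)).IsMaximal := Ideal.isMaximal_comap_of_isIntegral_of_isMaximal (R := R) M
      exact (IsLocalRing.eq_maximalIdeal inferInstance).ge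
    have h2 : ∀ a : A', (1 : R) ⊗ₜ[A] a ∈ M ↔ a ∈ maximalIdeal A' := by
      let i : A' →+* D := (Algebra.TensorProduct.includeRight : A' →ₐ[A] D).toRingHom
      haveI : (M.comap i).IsPrime := Ideal.IsPrime.comap i
      have h3 : (M.comap i).comap (algebraMap A A') = maximalIdeal A := by
        rw [Ideal.comap_comap, show i.comp (algebraMap A A') = (algebraMap R D).comp (algebraMap A R) from
          RingHom.ext fun a => by
            show (1 : R) ⊗ₜ[A] algebraMap A A' a = algebraMap A R a ⊗ₜ (1 : A')
            rw [Algebra.algebraMap_eq_smul_one (A := A'), Algebra.algebraMap_eq_smul_one (A := R),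
              TensorProduct.smul_tmul], ← Ideal.comap_comap]
        haveI : (M.comap (algebraMap R D)).IsMaximal := Ideal.isMaximal_comap_of_isIntegral_of_isMaximal (R := R) M
        rw [IsLocalRing.eq_maximalIdeal (I := M.comap (algebraMap R D)) inferInstance]
        ext a
        obtain ⟨b, hb⟩ : ∃ b : A, b = a := ⟨a, rfl⟩
        subst hb
        rw [Ideal.mem_comap, hAR, mem_maximalIdeal, mem_maximalIdeal, mem_nonunits_iff, mem_nonunits_iff]
        refine not_congr ⟨fun hu => ?_, fun hu => (hu.map C).map (fromPoly A R)⟩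
        have h4 := hu.map g₀
        rw [← hAR, hg₀A] at h4
        exact (isUnit_map_iff (algebraMap A A') b).1 h4
      haveI : (M.comap i).IsMaximal :=
        Ideal.isMaximal_of_isIntegral_of_isMaximal_comap _ (by rw [h3]; infer_instance)
      intro a
      rw [← IsLocalRing.eq_maximalIdeal (I := M.comap i) inferInstance]
      rfl
    intro d
    obtain ⟨a', ha'⟩ := hdec d
    have h5 : r (d - 1 ⊗ₜ a') ∈ maximalIdeal A' := by
      refine (?_ : (maximalIdeal R).map (algebraMap R D) ≤ (maximalIdeal A').comap r) ha'
      refine Ideal.map_le_iff_le_comap.2 fun x hx => ?_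
      show r (x ⊗ₜ 1) ∈ maximalIdeal A'
      rw [hr, mul_one]
      obtain ⟨a, ha⟩ := exists_sub_mem A R x
      have hax : fromPoly A R (C a) ∈ maximalIdeal R := by simpa using Ideal.sub_mem _ hx ha
      have hxm : x ∈ maximalIdeal R := hx
      rw [← Hensel.henselization_map_maximalIdeal (Localization.AtPrime (origin A)) R,
        ← Localization.AtPrime.map_eq_maximalIdeal, Ideal.map_map] at hxm
      refine (?_ : (origin A).map (fromPoly A R) ≤ (maximalIdeal A').comap g₀) hxm
      refine Ideal.map_le_iff_le_comap.2 fun q hq => ?_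
      show g₀ (fromPoly A R q) ∈ maximalIdeal A'
      rw [show g₀ (fromPoly A R q) = algebraMap A A' (q.coeff 0) from RingHom.congr_fun hg₀ q]
      exact map_nonunit (algebraMap A A') _ ((mem_origin_iff q).1 hq)
    rw [map_sub, hr, map_one, one_mul] at h5
    constructor
    · intro hd
      have h6 : (1 : R) ⊗ₜ[A] a' ∈ M := by simpa using Ideal.sub_mem _ hd (h1 ha')
      simpa using Ideal.add_mem _ h5 ((h2 a').1 h6)
    · intro hd
      have h6 : a' ∈ maximalIdeal A' := by simpa using Ideal.sub_mem _ hd h5
      simpa using Ideal.add_mem _ (h1 ha') ((h2 a').2 h6)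
  haveI hloc : IsLocalRing D := IsLocalRing.of_unique_max_ideal (by
    obtain ⟨M, hM⟩ := Ideal.exists_maximal D
    exact ⟨M, hM, fun M' hM' => SetLike.ext fun d => (hmax M' hM' d).trans (hmax M hM d).symm⟩)
  have hunit : ∀ d : D, IsUnit d ↔ IsUnit (r d) := fun d => by
    rw [← notMem_maximalIdeal, hmax _ (maximalIdeal.isMaximal D), notMem_maximalIdeal]
  haveI : HenselianLocalRing D := Hensel.henselianLocalRing_finite R D
  let c := coordMap A R A'
  have hrc : ∀ q, r (c q) = q.coeff 0 := by
    have : r.comp c = Polynomial.constantCoeff := by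
      refine Polynomial.ringHom_ext (fun a => ?_) ?_
      · show r (coordMap A R A' (C a)) = _
        rw [coordMap_C, hr, map_one, one_mul]; simp
      · show r (coordMap A R A' X) = _
        rw [coordMap_X, hr, mul_one, show g₀ (fromPoly A R X) = algebraMap A A' ((X : A[X]).coeff 0) from
          RingHom.congr_fun hg₀ X]
        simp
    exact fun q => RingHom.congr_fun this q
  have hc : ∀ q : A'[X], IsUnit (c q) ↔ q ∉ origin A' := fun q => by
    rw [hunit, hrc, mem_origin_iff, notMem_maximalIdeal]
  let ρ : Localization.AtPrime (origin A') →+* D :=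
    IsLocalization.lift (M := (origin A').primeCompl) (g := c) fun y => (hc y).2 y.2
  have hρ : ∀ q, ρ (algebraMap A'[X] _ q) = c q := fun q => IsLocalization.lift_eq _ q
  letI algD : Algebra (Localization.AtPrime (origin A')) D := ρ.toAlgebra
  haveI hρl : IsLocalHom (algebraMap (Localization.AtPrime (origin A')) D) := by
    refine ⟨fun x hx => ?_⟩
    obtain ⟨q, s, rfl⟩ := IsLocalization.exists_mk'_eq (origin A').primeCompl x
    rw [IsLocalization.AtPrime.isUnit_mk'_iff (Localization.AtPrime (origin A')) (origin A')]
    have h1 : IsUnit (c q) := by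
      rw [← hρ, ← IsLocalization.mk'_spec (Localization.AtPrime (origin A')) q s, map_mul]
      exact IsUnit.mul hx (by rw [hρ]; exact (hc s).2 s.2)
    exact (hc q).1 h1
  refine ⟨hloc, algD, hρl, ⟨inferInstance, ?_⟩, RingHom.ext hρ⟩
  intro T _ _ f hf
  let i' : A' →+* T := f.comp ((algebraMap A'[X] _).comp C)
  letI : Algebra A T := (i'.comp (algebraMap A A')).toAlgebra
  obtain ⟨g, hg⟩ := exists_lift A R (T := T)
    ((f.comp (algebraMap A'[X] _)).comp (Polynomial.mapRingHom (algebraMap A A'))) fun q => by
    rw [RingHom.comp_apply, RingHom.comp_apply, isUnit_map_iff f,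
      IsLocalization.AtPrime.isUnit_to_map_iff (Localization.AtPrime (origin A')) (origin A'),
      Ideal.mem_primeCompl_iff, mem_origin_iff, mem_origin_iff, Polynomial.coe_mapRingHom, Polynomial.coeff_map,
      notMem_maximalIdeal, notMem_maximalIdeal, isUnit_map_iff]
  have hgA : ∀ a, g (algebraMap A R a) = algebraMap A T a := fun a => by
    rw [hAR]
    exact (RingHom.congr_fun hg (C a)).trans (by simp [i', RingHom.algebraMap_toAlgebra])
  let G : D →ₐ[A] T := Algebra.TensorProduct.lift ({ g with commutes' := hgA } : R →ₐ[A] T)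
    ({ i' with commutes' := fun _ => rfl } : A' →ₐ[A] T) fun _ _ => mul_comm _ _
  have hG : ∀ x a, G (x ⊗ₜ a) = g x * i' a := fun x a => Algebra.TensorProduct.lift_tmul _ _ _ _ _
  refine ⟨G.toRingHom, IsLocalization.ringHom_ext (origin A').primeCompl (Polynomial.ringHom_ext (fun a => ?_) ?_),
    fun G' hG' => ?_⟩
  · show G (ρ (algebraMap A'[X] _ (C a))) = i' a
    rw [hρ]
    show G (coordMap A R A' (C a)) = i' a
    rw [coordMap_C, hG, map_one, one_mul]
  · show G (ρ (algebraMap A'[X] _ X)) = f (algebraMap A'[X] _ X)
    rw [hρ]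
    show G (coordMap A R A' X) = _
    rw [coordMap_X, hG, map_one, mul_one, show g (fromPoly A R X) =
      f (algebraMap A'[X] _ ((X : A[X]).map (algebraMap A A'))) from RingHom.congr_fun hg X, Polynomial.map_X]
  · have hGf : ∀ q, G' (c q) = f (algebraMap A'[X] _ q) := fun q => by
      rw [← hρ]; exact RingHom.congr_fun hG' _
    have hgR : G'.comp (algebraMap R D) = g := by
      symm
      refine hom_ext A R g _ (hg.trans (RingHom.ext fun q => ?_)) fun q hq => ?_
      · show f (algebraMap A'[X] _ (q.map (algebraMap A A'))) = G' (fromPoly A R q ⊗ₜ 1)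
        rw [← hGf, ← coordMap_map A R hAR A' q]
      · rw [show g (fromPoly A R q) = f (algebraMap A'[X] _ (q.map (algebraMap A A'))) from RingHom.congr_fun hg q]
        refine map_nonunit f _ ?_
        rw [← Localization.AtPrime.map_eq_maximalIdeal]
        refine Ideal.mem_map_of_mem _ ?_
        rw [mem_origin_iff, Polynomial.coeff_map]
        exact map_nonunit (algebraMap A A') _ ((mem_origin_iff q).1 hq)
    refine RingHom.ext fun d => ?_
    induction d using TensorProduct.induction_on with
    | zero => simp
    | tmul x a =>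
      show G' (x ⊗ₜ a) = G (x ⊗ₜ a)
      rw [hG, show x ⊗ₜ[A] a = algebraMap R D x * c (C a) by
        rw [show c (C a) = 1 ⊗ₜ a from coordMap_C A R A' a]
        simp [D, Algebra.TensorProduct.tmul_mul_tmul], map_mul, hGf, ← hgR]
      rfl
    | add y z hy hz => rw [map_add, map_add, hy, hz]

end Groth.Agent.HensLine
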