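import Groth.Agent.HensLine.Stages
import Mathlib

/-!
# The henselised line is the union of the henselised lines of the stages
-/

set_option autoImplicit false
set_option linter.style.haveILetI false
set_option backward.isDefEq.respectTransparency false
set_option synthInstance.maxHeartbeats 400000
set_option maxHeartbeats 2000000

universe u

open IsLocalRing Polynomial
open scoped TensorProduct

attribute [-instance] MvPowerSeries.instAlgebra MvPowerSeries.instModule

namespace Groth.Agent.HensLine

variable (A : Type u) [CommRing A] [IsDomain A] [IsIntegrallyClosed A] [HenselianLocalRing A]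
  (K : Type u) [Field K] [Algebra A K] [IsFractionRing A K]
  (R : Type u) [CommRing R] [IsLocalRing R] [Algebra (Localization.AtPrime (origin A)) R]
  [IsLocalHom (algebraMap (Localization.AtPrime (origin A)) R)]
  [_root_.Hensel.IsHenselization (Localization.AtPrime (origin A)) R]

/-- A henselised line over a stage, with its map to the henselised line. -/
structure RStage (s : Finset A) where
  S : Stage A K s
  RS : Type u
  [commRing : CommRing RS]
  [localRing : IsLocalRing RS]
  [alg : Algebra (Localization.AtPrime (origin S.H)) RS]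
  [localHom : IsLocalHom (algebraMap (Localization.AtPrime (origin S.H)) RS)]
  [hens : _root_.Hensel.IsHenselization (Localization.AtPrime (origin S.H)) RS]
  ι : RS →+* R
  hι : ∀ q : S.H[X], ι (fromPoly S.H RS q) = fromPoly A R (q.map S.j)

attribute [instance] RStage.commRing RStage.localRing RStage.alg RStage.localHom RStage.hens

variable {A K R}

theorem isUnit_fromPoly_map {s : Finset A} (S : Stage A K s) (q : S.H[X]) :
    IsUnit (fromPoly A R (q.map S.j)) ↔ q ∉ origin S.H := by
  haveI : HenselianLocalRing R := _root_.Hensel.IsHenselization.henselian (R := Localization.AtPrime (origin A))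
  rw [fromPoly, RingHom.comp_apply, isUnit_map_iff,
    IsLocalization.AtPrime.isUnit_to_map_iff (Localization.AtPrime (origin A)) (origin A), Ideal.mem_primeCompl_iff,
    mem_origin_iff, mem_origin_iff, Polynomial.coeff_map, notMem_maximalIdeal, notMem_maximalIdeal, isUnit_map_iff]

variable (A K R)

theorem nonempty_rstage (s : Finset A) : Nonempty (RStage A K R s) := by
  obtain ⟨S⟩ := nonempty_stage A K s
  haveI : HenselianLocalRing R := _root_.Hensel.IsHenselization.henselian (R := Localization.AtPrime (origin A))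
  let L := Localization.AtPrime (origin S.H)
  obtain ⟨RS, _, _, _, hloc, hH⟩ : ∃ (RS : Type u) (_ : CommRing RS) (_ : IsLocalRing RS) (_ : Algebra L RS)
      (_ : IsLocalHom (algebraMap L RS)), _root_.Hensel.IsHenselization L RS := by
    obtain ⟨hloc, hHens⟩ := Hensel.exists_henselization L
    exact ⟨Hensel.Env L (ResidueField L), inferInstance, inferInstance, inferInstance, hloc, hHens⟩
  haveI := hH
  obtain ⟨ι, hι⟩ := exists_lift S.H RS ((fromPoly A R).comp (Polynomial.mapRingHom S.j)) fun q => by
    rw [RingHom.comp_apply, Polynomial.coe_mapRingHom]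
    exact isUnit_fromPoly_map S q
  exact ⟨{ S := S, RS := RS, ι := ι, hι := fun q => RingHom.congr_fun hι q }⟩

variable {A K R}

namespace RStage

variable {s : Finset A} (T : RStage A K R s)

theorem algebraMap_mem_range (q : A[X]) (hq : ∀ n, q.coeff n ∈ s) : fromPoly A R q ∈ T.ι.range := by
  have : q ∈ Polynomial.lifts T.S.j := by
    rw [Polynomial.lifts_iff_coeff_lifts]
    exact fun n => T.S.mem _ (subset_stageRing A K s (hq n))
  obtain ⟨q', rfl⟩ := this
  exact ⟨fromPoly T.S.H T.RS q', T.hι q'⟩

theorem isLocalHom_ι : IsLocalHom T.ι := by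
  refine ⟨fun x hx => by_contra fun hnx => ?_⟩
  have h1 : x ∈ (origin T.S.H).map (fromPoly T.S.H T.RS) := by
    rw [fromPoly, ← Ideal.map_map, Localization.AtPrime.map_eq_maximalIdeal, Hensel.henselization_map_maximalIdeal]
    exact hnx
  have h2 := Ideal.mem_map_of_mem T.ι h1
  rw [Ideal.map_map] at h2
  refine (Ideal.map_le_iff_le_comap.2 (fun q hq => ?_) : _ ≤ maximalIdeal R) h2 hx
  show T.ι (fromPoly T.S.H T.RS q) ∈ maximalIdeal R
  rw [T.hι]
  exact fun hu => (isUnit_fromPoly_map T.S q).1 hu hq

theorem injective_ι : Function.Injective T.ι := by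
  obtain ⟨-, -, -, -, gS, hffS, hgS⟩ := exists_toPowerSeries T.S.H T.RS
  haveI := TauTriv.henselianLocalRing_powerSeries A
  haveI : HenselianLocalRing (PowerSeries A) := TauTriv.henselianLocalRing_powerSeries A
  obtain ⟨gA, hgA⟩ := exists_lift A R (T := PowerSeries A) Polynomial.coeToPowerSeries.ringHom fun q => by
    rw [PowerSeries.isUnit_iff_constantCoeff, mem_origin_iff, notMem_maximalIdeal]
    show IsUnit (PowerSeries.constantCoeff (q : PowerSeries A)) ↔ _
    rw [← PowerSeries.coeff_zero_eq_constantCoeff_apply, Polynomial.coeff_coe]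
  have h : gA.comp T.ι = (PowerSeries.map T.S.j).comp gS := by
    refine hom_ext T.S.H T.RS _ _ (RingHom.ext fun q => ?_) fun q hq => ?_
    · simp only [RingHom.comp_apply]
      rw [T.hι, hgS, show gA (fromPoly A R (q.map T.S.j)) = ((q.map T.S.j : A[X]) : PowerSeries A) from
        RingHom.congr_fun hgA _]
      exact PowerSeries.ext fun n => by simp
    · simp only [RingHom.comp_apply]
      rw [T.hι, show gA (fromPoly A R (q.map T.S.j)) = ((q.map T.S.j : A[X]) : PowerSeries A) from
        RingHom.congr_fun hgA _, mem_maximalIdeal, mem_nonunits_iff, PowerSeries.isUnit_iff_constantCoeff,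
        ← PowerSeries.coeff_zero_eq_constantCoeff_apply, Polynomial.coeff_coe, Polynomial.coeff_map, isUnit_map_iff,
        ← notMem_maximalIdeal, not_not, ← mem_origin_iff]
      exact hq
  have hgSinj : Function.Injective gS := by
    letI := gS.toAlgebra
    haveI := hffS
    exact FaithfulSMul.algebraMap_injective T.RS (PowerSeries T.S.H)
  intro x y hxy
  have h1 := congrArg gA hxy
  rw [← RingHom.comp_apply, h, ← RingHom.comp_apply gA, h] at h1
  exact hgSinj (PowerSeries.map_injective T.S.j T.S.inj h1)

theorem range_mono {t : Finset A} (hst : s ⊆ t) (T' : RStage A K R t) : T.ι.range ≤ T'.ι.range := by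
  obtain ⟨f, hf⟩ := T.S.univ T'.S.H T'.S.j T'.S.inj T'.S.isLocal
    fun x hx => T'.S.mem x (stageRing_mono A K hst hx)
  haveI : IsLocalHom f := ⟨fun x hx => T.S.isLocal.map_nonunit x (by rw [← hf]; exact hx.map T'.S.j)⟩
  haveI : HenselianLocalRing T'.RS :=
    _root_.Hensel.IsHenselization.henselian (R := Localization.AtPrime (origin T'.S.H))
  obtain ⟨g, hg⟩ := exists_lift T.S.H T.RS ((fromPoly T'.S.H T'.RS).comp (Polynomial.mapRingHom f)) fun q => by
    rw [RingHom.comp_apply, fromPoly, RingHom.comp_apply, isUnit_map_iff,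
      IsLocalization.AtPrime.isUnit_to_map_iff (Localization.AtPrime (origin T'.S.H)) (origin T'.S.H),
      Ideal.mem_primeCompl_iff, mem_origin_iff, mem_origin_iff, Polynomial.coe_mapRingHom, Polynomial.coeff_map,
      notMem_maximalIdeal, notMem_maximalIdeal, isUnit_map_iff]
  haveI : HenselianLocalRing R := _root_.Hensel.IsHenselization.henselian (R := Localization.AtPrime (origin A))
  have h : T'.ι.comp g = T.ι := by
    refine (hom_ext T.S.H T.RS _ _ (RingHom.ext fun q => ?_) fun q hq => ?_).symm
    · simp only [RingHom.comp_apply]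
      rw [T.hι, show g (fromPoly T.S.H T.RS q) = fromPoly T'.S.H T'.RS (q.map f) from RingHom.congr_fun hg q, T'.hι,
        Polynomial.map_map, hf]
    · rw [T.hι]
      exact fun hu => (isUnit_fromPoly_map T.S q).1 hu hq
  rintro _ ⟨x, rfl⟩
  exact ⟨g x, RingHom.congr_fun h x⟩

end RStage

variable (A K R)

/-- Every finite set of elements of the henselised line comes from a stage. -/
theorem exists_stage_range (F : Finset R) : ∃ (s : Finset A), ∀ T : RStage A K R s, ∀ x ∈ F, x ∈ T.ι.range := by
  classical
  haveI : HenselianLocalRing R := _root_.Hensel.IsHenselization.henselian (R := Localization.AtPrime (origin A))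
  let P : R → Prop := fun x => ∃ s : Finset A, ∀ T : RStage A K R s, x ∈ T.ι.range
  have up : ∀ {s t : Finset A}, s ⊆ t → ∀ (T : RStage A K R t) (x : R),
      (∀ T₀ : RStage A K R s, x ∈ T₀.ι.range) → x ∈ T.ι.range := fun hst T x hx => by
    obtain ⟨T₀⟩ := nonempty_rstage A K R _
    exact T₀.range_mono hst T (hx T₀)
  have hfin : ∀ G : Finset R, (∀ x ∈ G, P x) → ∃ s : Finset A, ∀ T : RStage A K R s, ∀ x ∈ G, x ∈ T.ι.range := by
    intro G hG
    choose! s hs using hG
    exact ⟨G.biUnion s, fun T x hx => up (Finset.subset_biUnion_of_mem s hx) T x (hs x hx)⟩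
  have hbin : ∀ {x y z : R}, P x → P y → (∀ {t} (T : RStage A K R t), x ∈ T.ι.range → y ∈ T.ι.range → z ∈ T.ι.range) → P z :=
    fun {x y z} ⟨s, hs⟩ ⟨t, ht⟩ h => ⟨s ∪ t, fun T =>
      h T (up Finset.subset_union_left T x hs) (up Finset.subset_union_right T y ht)⟩
  let U : Subring R :=
    { carrier := {x | P x}
      mul_mem' := fun hx hy => hbin hx hy fun T => mul_mem
      one_mem' := ⟨∅, fun T => one_mem _⟩
      add_mem' := fun hx hy => hbin hx hy fun T => add_mem
      zero_mem' := ⟨∅, fun T => zero_mem _⟩
      neg_mem' := fun {x} hx => hbin hx hx fun T h _ => neg_mem h }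
  have hunit : ∀ {x : U}, IsUnit (x : R) → IsUnit x := fun {x} hx => by
    obtain ⟨v, hv⟩ := hx.exists_right_inv
    have hv' : P v := by
      obtain ⟨s, hs⟩ := x.2
      refine ⟨s, fun T => ?_⟩
      obtain ⟨y, hy⟩ := hs T
      haveI := T.isLocalHom_ι
      obtain ⟨w, hw⟩ := (isUnit_of_map_unit T.ι y (hy ▸ hx)).exists_right_inv
      refine ⟨w, ?_⟩
      have h1 := congrArg T.ι hw
      rw [map_mul, hy, map_one] at h1
      exact hx.mul_left_cancel (h1.trans hv.symm)
    exact IsUnit.of_mul_eq_one (b := (⟨v, hv'⟩ : U)) (Subtype.ext hv)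
  haveI : IsLocalHom U.subtype := ⟨fun x hx => hunit hx⟩
  haveI : Nontrivial U := ⟨⟨0, 1, fun h => zero_ne_one (congrArg Subtype.val h)⟩⟩
  haveI : IsLocalRing U := IsLocalRing.of_nonunits_add fun {x y} hx hy hxy => by
    have h1 : (x : R) ∈ maximalIdeal R := fun h => hx (hunit h)
    have h2 : (y : R) ∈ maximalIdeal R := fun h => hy (hunit h)
    exact Ideal.add_mem _ h1 h2 (hxy.map U.subtype)
  haveI : HenselianLocalRing U := by
    refine HenselianLocalRing.mk fun p hp a₀ h₁ h₂ => ?_
    obtain ⟨s, hs⟩ := hfin ((p.support.image fun n => (p.coeff n : R)) ∪ {(a₀ : R)}) (fun x hx => by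
      rw [Finset.mem_union, Finset.mem_image, Finset.mem_singleton] at hx
      rcases hx with ⟨n, -, rfl⟩ | rfl
      · exact (p.coeff n).2
      · exact a₀.2)
    obtain ⟨T⟩ := nonempty_rstage A K R s
    haveI := T.isLocalHom_ι
    haveI : HenselianLocalRing T.RS :=
      _root_.Hensel.IsHenselization.henselian (R := Localization.AtPrime (origin T.S.H))
    have hl : p.map U.subtype ∈ Polynomial.lifts T.ι := by
      rw [Polynomial.lifts_iff_coeff_lifts]
      intro n
      rw [Polynomial.coeff_map]
      by_cases hn : n ∈ p.support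
      · exact hs T _ (Finset.mem_union_left _ (Finset.mem_image.2 ⟨n, hn, rfl⟩))
      · rw [Polynomial.notMem_support_iff.1 hn]; exact ⟨0, map_zero _⟩
    obtain ⟨q, hq, -, hqm⟩ := Polynomial.lifts_and_degree_eq_and_monic hl (hp.map _)
    obtain ⟨b₀, hb₀⟩ := hs T (a₀ : R) (Finset.mem_union_right _ (Finset.mem_singleton_self _))
    have hev : ∀ (g : T.RS[X]) (f : U[X]), g.map T.ι = f.map U.subtype → T.ι (g.eval b₀) = ((f.eval a₀ : U) : R) :=
      fun g f hgf => by
        rw [← Polynomial.eval₂_at_apply, hb₀, ← Polynomial.eval_map, hgf, Polynomial.eval_map]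
        exact Polynomial.eval₂_at_apply U.subtype a₀
    obtain ⟨b, hb, hbb⟩ := HenselianLocalRing.is_henselian q hqm b₀
      (fun hu => h₁ (hunit (by rw [← hev q p hq]; exact hu.map T.ι)))
      ((isUnit_map_iff T.ι _).1 (by
        rw [hev q.derivative p.derivative (by rw [← Polynomial.derivative_map, hq, Polynomial.derivative_map])]
        exact h₂.map U.subtype))
    have hbP : P (T.ι b) := ⟨s, fun T' => T.range_mono (subset_refl s) T' ⟨b, rfl⟩⟩
    refine ⟨⟨T.ι b, hbP⟩, Subtype.ext ?_, fun hu => hbb ((isUnit_map_iff T.ι _).1 ?_)⟩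
    · show U.subtype (p.eval ⟨T.ι b, hbP⟩) = 0
      rw [← Polynomial.eval₂_at_apply, ← Polynomial.eval_map, ← hq, Polynomial.eval_map]
      show q.eval₂ T.ι (T.ι b) = 0
      rw [Polynomial.eval₂_at_apply, show q.eval b = 0 from hb, map_zero]
    · rw [map_sub, hb₀]
      exact hu.map U.subtype
  have hpoly : ∀ q : A[X], fromPoly A R q ∈ U := fun q =>
    ⟨insert 0 (q.support.image q.coeff), fun T => T.algebraMap_mem_range q fun n => by
      by_cases hn : n ∈ q.support
      · exact Finset.mem_insert_of_mem (Finset.mem_image.2 ⟨n, hn, rfl⟩)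
      · rw [Polynomial.notMem_support_iff.1 hn]; exact Finset.mem_insert_self _ _⟩
  obtain ⟨g, hg⟩ := exists_lift A R (T := U) ((fromPoly A R).codRestrict U hpoly) fun q => by
    rw [← isUnit_map_iff U.subtype]
    show IsUnit (fromPoly A R q) ↔ _
    rw [fromPoly, RingHom.comp_apply, isUnit_map_iff,
      IsLocalization.AtPrime.isUnit_to_map_iff (Localization.AtPrime (origin A)) (origin A), Ideal.mem_primeCompl_iff]
  have hid : U.subtype.comp g = RingHom.id R := by
    refine (hom_ext A R _ _ (RingHom.ext fun q => ?_) fun q hq => ?_).symm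
    · exact (congrArg Subtype.val (RingHom.congr_fun hg q)).symm
    · rw [RingHom.id_apply, fromPoly, RingHom.comp_apply, mem_maximalIdeal, mem_nonunits_iff, isUnit_map_iff,
        IsLocalization.AtPrime.isUnit_to_map_iff (Localization.AtPrime (origin A)) (origin A), Ideal.mem_primeCompl_iff,
        not_not]
      exact hq
  have hall : ∀ x, P x := fun x => by
    have h1 : ((g x : U) : R) = x := RingHom.congr_fun hid x
    rw [← h1]; exact (g x).2
  exact hfin F fun x _ => hall x

include K in
/-- The henselised line is a domain in which constants are regular. -/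
theorem isDomain_line : IsDomain R ∧ Function.Injective (fun a : A => fromPoly A R (C a)) := by
  classical
  haveI := TauTriv.henselianLocalRing_powerSeries A
  obtain ⟨gA, hgA⟩ := exists_lift A R (T := PowerSeries A) Polynomial.coeToPowerSeries.ringHom fun q => by
    rw [PowerSeries.isUnit_iff_constantCoeff, mem_origin_iff, notMem_maximalIdeal]
    show IsUnit (PowerSeries.constantCoeff (q : PowerSeries A)) ↔ _
    rw [← PowerSeries.coeff_zero_eq_constantCoeff_apply, Polynomial.coeff_coe]
  refine ⟨?_, fun a b h => PowerSeries.C_injective ?_⟩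
  swap
  · have h1 : ∀ c : A, gA (fromPoly A R (C c)) = PowerSeries.C c := fun c =>
      (RingHom.congr_fun hgA (C c)).trans (Polynomial.coe_C c)
    rw [← h1, ← h1]
    exact congrArg gA h
  haveI : NoZeroDivisors R := ⟨fun {x y} hxy => by
    obtain ⟨s, hs⟩ := exists_stage_range A K R {x, y}
    obtain ⟨T⟩ := nonempty_rstage A K R s
    obtain ⟨a, ha⟩ := hs T x (by simp)
    obtain ⟨b, hb⟩ := hs T y (by simp)
    haveI := (exists_toPowerSeries T.S.H T.RS).1
    rw [← ha, ← hb, ← map_mul, ← map_zero T.ι] at hxy
    rcases mul_eq_zero.1 (T.injective_ι hxy) with h | h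
    · exact Or.inl (by rw [← ha, h, map_zero])
    · exact Or.inr (by rw [← hb, h, map_zero])⟩
  exact NoZeroDivisors.to_isDomain R

end Groth.Agent.HensLine
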