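import Groth.Agent.HensLine.Util
import Groth.Agent.Hensel.Branches
import Mathlib

/-!
# The extension of the ground field
-/

set_option autoImplicit false
set_option linter.style.haveILetI false
set_option backward.isDefEq.respectTransparency false
set_option synthInstance.maxHeartbeats 400000
set_option maxHeartbeats 1000000

universe u

open scoped TensorProduct

namespace Groth.Agent.HensLine

/-- An étale algebra all of whose geometric points are rational is split. -/
theorem split_of_embeddings (k B Ω : Type u) [Field k] [CommRing B] [Algebra k B] [Algebra.Etale k B]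
    [Field Ω] [Algebra k Ω] [IsSepClosed Ω] (h : ∀ σ : B →ₐ[k] Ω, ∀ b, σ b ∈ (algebraMap k Ω).range) :
    ∃ (I : Type u) (_ : Fintype I), Nonempty (B ≃ₐ[k] (I → k)) := by
  classical
  obtain ⟨I, _, Ai, _, _, e, hAi⟩ := (Algebra.Etale.iff_exists_algEquiv_prod k B).1 inferInstance
  haveI := Fintype.ofFinite I
  have hb : ∀ i, Function.Bijective (algebraMap k (Ai i)) := fun i => by
    haveI := (hAi i).1
    haveI := (hAi i).2
    refine ⟨RingHom.injective _, fun x => ?_⟩
    let σ : Ai i →ₐ[k] Ω := IsSepClosed.lift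
    obtain ⟨b, hb⟩ := e.surjective (Pi.single i x)
    obtain ⟨t, ht⟩ := h ((σ.comp (Pi.evalAlgHom k Ai i)).comp e.toAlgHom) b
    refine ⟨t, σ.toRingHom.injective ?_⟩
    rw [AlgHom.toRingHom_eq_coe, RingHom.coe_coe, σ.commutes, ht]
    show σ (e b i) = σ x
    rw [hb, Pi.single_eq_same]
  exact ⟨I, inferInstance,
    ⟨e.trans (AlgEquiv.piCongrRight fun i => (AlgEquiv.ofBijective (Algebra.ofId k (Ai i)) (hb i)).symm)⟩⟩

/-- A finite separable extension containing given roots and splitting a given étale algebra. -/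
theorem exists_extension (K : Type u) [Field K] (B : Type u) [CommRing B] [Algebra K B] [Algebra.Etale K B]
    (N : ℕ) (hN : (N : K) ≠ 0) (S : Finset K) (hS : (0 : K) ∉ S) :
    ∃ (K' : Type u) (_ : Field K') (_ : Algebra K K'), FiniteDimensional K K' ∧ Algebra.IsSeparable K K' ∧
      (∀ c ∈ S, ∃ z : K', z ^ N = algebraMap K K' c) ∧
      ∃ (I : Type u) (_ : Fintype I), Nonempty (K' ⊗[K] B ≃ₐ[K'] (I → K')) := by
  classical
  haveI : Module.Finite K B := Algebra.FormallyUnramified.finite_of_free K B
  haveI : NeZero (N : K) := ⟨hN⟩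
  let Ω := SeparableClosure K
  have hroot : ∀ c : K, c ∈ S → ∃ z : Ω, z ^ N = algebraMap K Ω c := fun c hc => by
    haveI : NeZero (N : Ω) := ⟨fun h => hN ((algebraMap K Ω).injective (by rw [map_natCast, map_zero, h]))⟩
    exact IsSepClosed.exists_pow_nat_eq _ N
  choose z hz using hroot
  obtain ⟨n, b, hb⟩ := Module.Finite.exists_fin (R := K) (M := B)
  haveI : Finite (B →ₐ[K] Ω) := inferInstance
  let s : Set Ω := (Set.range fun c : S => z c c.2) ∪ Set.range fun p : (B →ₐ[K] Ω) × Fin n => p.1 (b p.2)
  let K' := IntermediateField.adjoin K s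
  haveI : FiniteDimensional K K' := by
    haveI : Finite ↥s := (Set.finite_range _).union (Set.finite_range _) |>.to_subtype
    exact IntermediateField.finiteDimensional_adjoin fun x _ => Algebra.IsIntegral.isIntegral x
  haveI : Algebra.IsSeparable K K' := Algebra.isSeparable_tower_bot_of_isSeparable K K' Ω
  refine ⟨K', inferInstance, inferInstance, inferInstance, inferInstance, fun c hc =>
    ⟨⟨z c hc, IntermediateField.subset_adjoin K s (Or.inl ⟨⟨c, hc⟩, rfl⟩)⟩, Subtype.ext (hz c hc)⟩, ?_⟩
  haveI : IsSepClosed Ω := inferInstance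
  refine split_of_embeddings K' (K' ⊗[K] B) Ω fun σ x => ?_
  induction x using TensorProduct.induction_on with
  | zero => rw [map_zero]; exact zero_mem _
  | tmul t y =>
    rw [show t ⊗ₜ[K] y = t • ((1 : K') ⊗ₜ[K] y) by rw [TensorProduct.smul_tmul', smul_eq_mul, mul_one], map_smul,
      Algebra.smul_def]
    refine mul_mem ⟨t, rfl⟩ ?_
    let σ₀ : B →ₐ[K] Ω := (σ.restrictScalars K).comp Algebra.TensorProduct.includeRight
    have hy : y ∈ (Submodule.span K (Set.range b) : Submodule K B) := hb ▸ Submodule.mem_top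
    show σ₀ y ∈ (algebraMap K' Ω).range
    induction hy using Submodule.span_induction with
    | mem w hw =>
      obtain ⟨i, rfl⟩ := hw
      exact ⟨⟨σ₀ (b i), IntermediateField.subset_adjoin K s (Or.inr ⟨(σ₀, i), rfl⟩)⟩, rfl⟩
    | zero => rw [map_zero]; exact zero_mem _
    | add u v _ _ hu hv => rw [map_add]; exact add_mem hu hv
    | smul a u _ hu =>
      rw [map_smul, Algebra.smul_def, IsScalarTower.algebraMap_apply K K' Ω]
      exact mul_mem ⟨_, rfl⟩ hu
  | add u v hu hv => rw [map_add]; exact add_mem hu hv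

end Groth.Agent.HensLine
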