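import Groth.Agent.TauTriv.Power
import Groth.Agent.Hensel.BranchFlat
import Mathlib

/-!
# The henselised line over a henselian normal local ring
-/

set_option autoImplicit false
set_option linter.style.haveILetI false
set_option backward.isDefEq.respectTransparency false
set_option synthInstance.maxHeartbeats 400000
set_option maxHeartbeats 1000000

universe u

open IsLocalRing Polynomial
open scoped TensorProduct

attribute [-instance] MvPowerSeries.instAlgebra MvPowerSeries.instModule

namespace Groth.Agent.HensLine

/-- The origin of the closed fibre of the affine line. -/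
noncomputable def origin (A : Type u) [CommRing A] [IsLocalRing A] : Ideal A[X] :=
  (maximalIdeal A).map (Polynomial.C : A →+* A[X]) ⊔ Ideal.span {Polynomial.X}

theorem mem_origin_iff {A : Type u} [CommRing A] [IsLocalRing A] (q : A[X]) :
    q ∈ origin A ↔ q.coeff 0 ∈ maximalIdeal A := by
  constructor
  · intro hq
    refine (sup_le ?_ ?_ : origin A ≤ (maximalIdeal A).comap Polynomial.constantCoeff) hq
    · exact Ideal.map_le_iff_le_comap.2 fun a ha => by simpa using ha
    · rw [Ideal.span_singleton_le_iff_mem]; simp
  · intro hq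
    rw [origin, ← Polynomial.divX_mul_X_add q]
    exact Ideal.add_mem _ (Ideal.mem_sup_right (Ideal.mem_span_singleton'.2 ⟨_, rfl⟩))
      (Ideal.mem_sup_left (Ideal.mem_map_of_mem _ hq))

theorem isMaximal_origin (A : Type u) [CommRing A] [IsLocalRing A] : (origin A).IsMaximal := by
  have h : origin A = RingHom.ker ((residue A).comp (Polynomial.constantCoeff : A[X] →+* A)) := by
    ext q
    rw [mem_origin_iff, RingHom.mem_ker, RingHom.comp_apply, residue_eq_zero_iff]
    rfl
  rw [h]
  refine RingHom.ker_isMaximal_of_surjective _ (residue_surjective.comp fun a => ⟨C a, by simp⟩)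

instance isPrime_origin (A : Type u) [CommRing A] [IsLocalRing A] : (origin A).IsPrime :=
  (isMaximal_origin A).isPrime

variable (A : Type u) [CommRing A] [IsLocalRing A]
  (R : Type u) [CommRing R] [IsLocalRing R] [Algebra (Localization.AtPrime (origin A)) R]
  [IsLocalHom (algebraMap (Localization.AtPrime (origin A)) R)]

/-- The map from the polynomial ring. -/
noncomputable def fromPoly : A[X] →+* R :=
  (algebraMap (Localization.AtPrime (origin A)) R).comp (algebraMap A[X] (Localization.AtPrime (origin A)))

variable [hR : _root_.Hensel.IsHenselization (Localization.AtPrime (origin A)) R]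


include hR in
/-- Maps to a henselian local ring are detected on polynomials. -/
theorem hom_ext {T : Type u} [CommRing T] [HenselianLocalRing T] (g₁ g₂ : R →+* T)
    (h : g₁.comp (fromPoly A R) = g₂.comp (fromPoly A R))
    (hloc : ∀ q : A[X], q ∈ (origin A) → g₁ (fromPoly A R q) ∈ maximalIdeal T) : g₁ = g₂ := by
  have h' : g₁.comp (algebraMap (Localization.AtPrime (origin A)) R) = g₂.comp (algebraMap (Localization.AtPrime (origin A)) R) :=
    IsLocalization.ringHom_ext (origin A).primeCompl h
  haveI hl : IsLocalHom (g₁.comp (algebraMap (Localization.AtPrime (origin A)) R)) := by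
    refine ⟨fun x hx => ?_⟩
    obtain ⟨q, s, rfl⟩ := IsLocalization.exists_mk'_eq (origin A).primeCompl x
    rw [IsLocalization.AtPrime.isUnit_mk'_iff (Localization.AtPrime (origin A)) (origin A)]
    intro hq
    have h1 : IsUnit (g₁.comp (algebraMap (Localization.AtPrime (origin A)) R) (algebraMap A[X] _ q)) := by
      rw [← IsLocalization.mk'_spec (Localization.AtPrime (origin A)) q s, map_mul]
      exact hx.mul (((IsLocalization.map_units (Localization.AtPrime (origin A)) s)).map _)
    exact hloc q hq h1
  obtain ⟨g, -, hu⟩ := hR.universal T (g₁.comp (algebraMap (Localization.AtPrime (origin A)) R)) hl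
  exact (hu g₁ rfl).trans (hu g₂ h'.symm).symm

include hR in
/-- The lift of a map from the polynomial ring. -/
theorem exists_lift {T : Type u} [CommRing T] [HenselianLocalRing T] (c : A[X] →+* T)
    (hc : ∀ q : A[X], IsUnit (c q) ↔ q ∉ (origin A)) :
    ∃ g : R →+* T, g.comp (fromPoly A R) = c := by
  let ρ : Localization.AtPrime (origin A) →+* T := IsLocalization.lift (M := (origin A).primeCompl) (g := c) fun y => (hc y).2 y.2
  have hρ : ∀ q, ρ (algebraMap A[X] _ q) = c q := fun q => IsLocalization.lift_eq _ q
  haveI hρl : IsLocalHom ρ := by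
    refine ⟨fun x hx => ?_⟩
    obtain ⟨q, s, rfl⟩ := IsLocalization.exists_mk'_eq (origin A).primeCompl x
    rw [IsLocalization.AtPrime.isUnit_mk'_iff (Localization.AtPrime (origin A)) (origin A)]
    have h1 : IsUnit (c q) := by
      rw [← hρ, ← IsLocalization.mk'_spec (Localization.AtPrime (origin A)) q s, map_mul]
      exact hx.mul (by rw [hρ]; exact (hc s).2 s.2)
    exact (hc q).1 h1
  obtain ⟨g, hg, -⟩ := hR.universal T ρ hρl
  exact ⟨g, RingHom.ext fun q => (RingHom.congr_fun hg _).trans (hρ q)⟩

section Structure

variable [IsDomain A] [IsIntegrallyClosed A] [IsNoetherianRing A] [HenselianLocalRing A]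

include hR in
/-- The structure facts and the map to power series. -/
theorem exists_toPowerSeries :
    IsDomain R ∧ IsIntegrallyClosed R ∧ IsNoetherianRing R ∧ HenselianLocalRing R ∧
      ∃ g : R →+* PowerSeries A, (letI := g.toAlgebra; Module.FaithfullyFlat R (PowerSeries A)) ∧
        ∀ q : A[X], g (fromPoly A R q) = (q : PowerSeries A) := by
  let Loc := Localization.AtPrime (origin A)
  let S := PowerSeries A
  haveI := TauTriv.henselianLocalRing_powerSeries A
  haveI : HenselianLocalRing R := _root_.Hensel.IsHenselization.henselian (R := Loc)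
  haveI : IsDomain Loc := IsLocalization.isDomain_localization (origin A).primeCompl_le_nonZeroDivisors
  haveI : IsIntegrallyClosed Loc := isIntegrallyClosed_of_isLocalization Loc (origin A).primeCompl (origin A).primeCompl_le_nonZeroDivisors
  obtain ⟨hd, hic⟩ := (Hensel.henselization_normal_iff Loc R).1 ⟨inferInstance, inferInstance⟩
  haveI : IsNoetherianRing Loc := IsLocalization.isNoetherianRing (origin A).primeCompl Loc inferInstance
  have hnoe : IsNoetherianRing R := (Hensel.henselization_isNoetherianRing_iff Loc R).1 inferInstance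
  let c : A[X] →+* S := Polynomial.coeToPowerSeries.ringHom
  have hc : ∀ q : A[X], IsUnit (c q) ↔ q ∉ (origin A) := fun q => by
    rw [PowerSeries.isUnit_iff_constantCoeff, mem_origin_iff, notMem_maximalIdeal]
    show IsUnit (PowerSeries.constantCoeff (q : PowerSeries A)) ↔ _
    rw [← PowerSeries.coeff_zero_eq_constantCoeff_apply, Polynomial.coeff_coe]
  obtain ⟨g, hg⟩ := exists_lift A R c hc
  refine ⟨hd, hic, hnoe, inferInstance, g, ?_, fun q => RingHom.congr_fun hg q⟩
  letI : Algebra R S := g.toAlgebra
  haveI : Module.Flat R S := RingHom.flat_algebraMap_iff.1 (Hensel.flat_of_henselization (A := Loc) g (by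
    letI : Algebra Loc S := (g.comp (algebraMap Loc R)).toAlgebra
    letI : Algebra A[X] S := c.toAlgebra
    haveI : IsScalarTower A[X] Loc S := IsScalarTower.of_algebraMap_eq fun q => (RingHom.congr_fun hg q).symm
    haveI : Module.Flat A[X] S := RingHom.flat_algebraMap_iff.1 (TauTriv.flat_toPowerSeries A)
    exact RingHom.flat_algebraMap_iff.2 ((Module.flat_iff_of_isLocalization Loc (origin A).primeCompl S).2 inferInstance)))
  haveI : IsLocalHom (algebraMap R S) := by
    refine ⟨fun x hx => by_contra fun hnx => ?_⟩
    have h1 : x ∈ ((origin A).map (algebraMap A[X] Loc)).map (algebraMap Loc R) := by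
      rw [Localization.AtPrime.map_eq_maximalIdeal, Hensel.henselization_map_maximalIdeal]; exact hnx
    rw [Ideal.map_map] at h1
    have h2 : g x ∈ maximalIdeal S := by
      have h3 := Ideal.mem_map_of_mem g h1
      rw [Ideal.map_map, show g.comp ((algebraMap Loc R).comp (algebraMap A[X] Loc)) = c from hg] at h3
      exact (Ideal.map_le_iff_le_comap.2 fun q hq => (fun hu => (hc q).1 hu hq) : _ ≤ maximalIdeal S) h3
    exact h2 hx
  exact Module.FaithfullyFlat.of_flat_of_isLocalHom

omit [IsDomain A] [IsIntegrallyClosed A] [IsNoetherianRing A] [HenselianLocalRing A] in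
include hR in
/-- Every element is constant modulo the maximal ideal. -/
theorem exists_sub_mem (x : R) : ∃ a : A, x - fromPoly A R (C a) ∈ maximalIdeal R := by
  obtain ⟨y, hy⟩ := Hensel.henselization_exists_sub_mem (Localization.AtPrime (origin A)) R x
  obtain ⟨q, s, rfl⟩ := IsLocalization.exists_mk'_eq (origin A).primeCompl y
  have hs : IsUnit ((s : A[X]).coeff 0) := by
    have h1 := s.2
    rw [Ideal.mem_primeCompl_iff, mem_origin_iff, notMem_maximalIdeal] at h1
    exact h1
  obtain ⟨u, hu⟩ := hs
  refine ⟨q.coeff 0 * ↑u⁻¹, ?_⟩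
  set a := q.coeff 0 * ↑u⁻¹
  have hm : q - C a * (s : A[X]) ∈ (origin A) := by
    rw [mem_origin_iff, Polynomial.coeff_sub, Polynomial.coeff_C_mul, ← hu, Units.inv_mul_cancel_right, sub_self]
    exact zero_mem _
  have h2 : IsLocalization.mk' (Localization.AtPrime (origin A)) q s - algebraMap A[X] _ (C a) ∈
      maximalIdeal (Localization.AtPrime (origin A)) := by
    rw [← Localization.AtPrime.map_eq_maximalIdeal]
    rw [show IsLocalization.mk' (Localization.AtPrime (origin A)) q s - algebraMap A[X] _ (C a) =
      IsLocalization.mk' (Localization.AtPrime (origin A)) (q - C a * (s : A[X])) s by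
        rw [IsLocalization.eq_mk'_iff_mul_eq, sub_mul, IsLocalization.mk'_spec, map_sub]; simp only [map_mul, mul_assoc]]
    exact IsLocalization.mk'_mem_map_algebraMap_iff (origin A).primeCompl _ _ _ _ |>.2 ⟨1, one_mem _, by simpa using hm⟩
  have h3 := map_nonunit (algebraMap (Localization.AtPrime (origin A)) R) _ h2
  rw [map_sub] at h3
  have h4 := Ideal.add_mem _ hy h3
  rw [sub_add_sub_cancel] at h4
  exact h4

end Structure

end Groth.Agent.HensLine
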