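import Groth.Agent.HensLine.Util
import Groth.Agent.HensLine.Ring
import Mathlib

/-!
# Primes of the henselised line over primes of height one
-/

set_option autoImplicit false
set_option linter.style.haveILetI false
set_option backward.isDefEq.respectTransparency false
set_option synthInstance.maxHeartbeats 400000
set_option maxHeartbeats 1000000

universe u

open IsLocalRing
open scoped TensorProduct

attribute [-instance] MvPowerSeries.instAlgebra MvPowerSeries.instModule

namespace Groth.Agent.HensLine

/-- A uniformizer at a prime of height one of a normal Noetherian domain. -/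
theorem exists_uniformizer (A : Type u) [CommRing A] [IsDomain A] [IsIntegrallyClosed A] [IsNoetherianRing A]
    (p : Ideal A) [p.IsPrime] (hp : p.height ≤ 1) (hp0 : p ≠ ⊥) :
    ∃ π ∈ p, π ≠ 0 ∧ ∀ x ∈ p, ∃ s ∉ p, ∃ y, s * x = π * y := by
  haveI := isPrincipalIdealRing_atPrime p hp
  let Ap := Localization.AtPrime p
  obtain ⟨t, ht⟩ := (IsPrincipalIdealRing.principal (maximalIdeal Ap)).principal
  obtain ⟨π, s, rfl⟩ := IsLocalization.exists_mk'_eq p.primeCompl t
  have hmem : ∀ x, algebraMap A Ap x ∈ maximalIdeal Ap ↔ x ∈ p := fun x =>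
    IsLocalization.AtPrime.to_map_mem_maximal_iff Ap p x
  have hgen : IsLocalization.mk' Ap π s ∈ maximalIdeal Ap := ht ▸ Submodule.mem_span_singleton_self _
  have hπp : π ∈ p := (hmem π).1 (by rw [← IsLocalization.mk'_spec Ap π s]; exact Ideal.mul_mem_right _ _ hgen)
  have key : ∀ x ∈ p, ∃ s' ∉ p, ∃ y, s' * x = π * y := by
    intro x hx
    have h1 : algebraMap A Ap x ∈ maximalIdeal Ap := (hmem x).2 hx
    rw [ht, Submodule.mem_span_singleton] at h1
    obtain ⟨c, hc⟩ := h1
    obtain ⟨y, s', rfl⟩ := IsLocalization.exists_mk'_eq p.primeCompl c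
    rw [smul_eq_mul, ← IsLocalization.mk'_mul, IsLocalization.mk'_eq_iff_eq_mul, ← map_mul] at hc
    refine ⟨((s' * s : p.primeCompl) : A), (s' * s : p.primeCompl).2, y, ?_⟩
    have := IsLocalization.injective Ap p.primeCompl_le_nonZeroDivisors hc
    rw [mul_comm, ← this, mul_comm]
  refine ⟨π, hπp, fun h0 => hp0 ?_, key⟩
  rw [eq_bot_iff]
  intro x hx
  obtain ⟨s', hs', y, hy⟩ := key x hx
  rw [h0, zero_mul] at hy
  exact (Ideal.mem_bot).2 ((mul_eq_zero.1 hy).resolve_left fun h => hs' (h ▸ p.zero_mem))

variable {A : Type u} [CommRing A] [IsDomain A] [IsNoetherianRing A]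
  {R : Type u} [CommRing R] [IsNoetherianRing R] [Algebra A R] [Module.Flat A R]
  (g : R →+* PowerSeries A) (hgA : ∀ a, g (algebraMap A R a) = PowerSeries.C a)

include hgA in
/-- The extension of a prime of the base is prime. -/
theorem isPrime_map (hff : letI := g.toAlgebra; Module.FaithfullyFlat R (PowerSeries A)) (p : Ideal A) [p.IsPrime] :
    (p.map (algebraMap A R)).IsPrime := by
  classical
  letI : Algebra R (PowerSeries A) := g.toAlgebra
  haveI := hff
  have h : (p.map (algebraMap A R)).map (algebraMap R (PowerSeries A)) =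
      RingHom.ker (PowerSeries.map (Ideal.Quotient.mk p)) := by
    rw [Ideal.map_map, show (algebraMap R (PowerSeries A)).comp (algebraMap A R) = PowerSeries.C from
      RingHom.ext hgA]
    refine le_antisymm (Ideal.map_le_iff_le_comap.2 fun a ha => ?_) fun f hf => ?_
    · rw [Ideal.mem_comap, RingHom.mem_ker, PowerSeries.map_C, Ideal.Quotient.eq_zero_iff_mem.2 ha, map_zero]
    · obtain ⟨s, hs⟩ := (isNoetherianRing_iff_ideal_fg A).1 inferInstance p
      have hcoef : ∀ n, PowerSeries.coeff n f ∈ p := fun n => by
        have := congrArg (PowerSeries.coeff n) (RingHom.mem_ker.1 hf)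
        rw [PowerSeries.coeff_map, map_zero] at this
        exact Ideal.Quotient.eq_zero_iff_mem.1 this
      choose c hc using fun n => Submodule.mem_span_finset.1 (show PowerSeries.coeff n f ∈ Submodule.span A (s : Set A) by rw [← Ideal.submodule_span_eq] at hs; rw [hs]; exact hcoef n)
      rw [show f = ∑ x ∈ s, PowerSeries.mk (fun n => c n x) * PowerSeries.C x from PowerSeries.ext fun n => by
        rw [map_sum]
        simp only [PowerSeries.coeff_mul_C, PowerSeries.coeff_mk]
        exact (hc n).2.symm]
      exact Ideal.sum_mem _ fun x hx => Ideal.mul_mem_left _ _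
        (Ideal.mem_map_of_mem _ (hs ▸ Submodule.subset_span hx))
  rw [← Ideal.comap_map_eq_self_of_faithfullyFlat (B := PowerSeries A) (p.map (algebraMap A R)), h]
  haveI : (RingHom.ker (PowerSeries.map (Ideal.Quotient.mk p))).IsPrime := RingHom.ker_isPrime _
  infer_instance

variable [IsDomain R]

include hgA in
/-- Primes of height one over a nonzero prime are extended and have the same uniformizer. -/
theorem eq_map_of_height_one (hff : letI := g.toAlgebra; Module.FaithfullyFlat R (PowerSeries A))
    (hinj : Function.Injective (algebraMap A R)) (Q : Ideal R) [Q.IsPrime] (hQ : Q.height ≤ 1)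
    (h0 : Q.comap (algebraMap A R) ≠ ⊥) :
    Q = (Q.comap (algebraMap A R)).map (algebraMap A R) ∧ (Q.comap (algebraMap A R)).height ≤ 1 ∧
      ∀ π ∈ Q.comap (algebraMap A R), (∀ x ∈ Q.comap (algebraMap A R), ∃ s ∉ Q.comap (algebraMap A R), ∃ y, s * x = π * y) →
        maximalIdeal (Localization.AtPrime Q) = Ideal.span {algebraMap R (Localization.AtPrime Q) (algebraMap A R π)} := by
  set p := Q.comap (algebraMap A R) with hpdef
  haveI := isPrime_map g hgA hff p
  have hle : p.map (algebraMap A R) ≤ Q := Ideal.map_comap_le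
  have heq : Q = p.map (algebraMap A R) := by
    by_contra hne
    have hne0 : p.map (algebraMap A R) ≠ ⊥ := fun h => h0 ((Ideal.map_eq_bot_iff_of_injective hinj).1 h)
    have h1 : (p.map (algebraMap A R)).height < Q.height :=
      Ideal.height_strict_mono_of_isPrime (lt_of_le_of_ne hle (Ne.symm hne))
    have h2 : (⊥ : Ideal R).height < (p.map (algebraMap A R)).height :=
      Ideal.height_strict_mono_of_isPrime (bot_lt_iff_ne_bot.2 hne0)
    rw [Ideal.height_bot] at h2
    have h3 : (1 : ℕ∞) ≤ (p.map (algebraMap A R)).height := Order.one_le_iff_pos.2 h2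
    exact absurd (lt_of_le_of_lt h3 (lt_of_lt_of_le h1 hQ)) (lt_irrefl _)
  refine ⟨heq, le_trans (height_under_le Q) hQ, fun π hπ hdiv => ?_⟩
  refine le_antisymm ?_ ?_
  · rw [← Localization.AtPrime.map_eq_maximalIdeal]
    refine le_trans (Ideal.map_mono heq.le) ?_
    rw [Ideal.map_map, Ideal.map_le_iff_le_comap]
    intro x hx
    obtain ⟨s, hs, y, hy⟩ := hdiv x hx
    rw [Ideal.mem_comap, RingHom.comp_apply]
    have hu : IsUnit (algebraMap R (Localization.AtPrime Q) (algebraMap A R s)) :=
      IsLocalization.map_units (Localization.AtPrime Q) (⟨algebraMap A R s, hs⟩ : Q.primeCompl)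
    rw [Ideal.mem_span_singleton, ← hu.dvd_mul_left, ← map_mul, ← map_mul, hy, map_mul, map_mul]
    exact dvd_mul_right _ _
  · rw [Ideal.span_singleton_le_iff_mem, ← Localization.AtPrime.map_eq_maximalIdeal]
    exact Ideal.mem_map_of_mem _ hπ

include hgA in
/-- The height two primes on the zero section are regular with parameters the uniformizer and the coordinate. -/
theorem regular_zeroSection [IsIntegrallyClosed R] (hff : letI := g.toAlgebra; Module.FaithfullyFlat R (PowerSeries A))
    (hinj : Function.Injective (algebraMap A R)) (τ : R) (hτ : g τ = PowerSeries.X) (p : Ideal A) [p.IsPrime]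
    (π : A) (hπp : π ∈ p) (hπ0 : π ≠ 0) (hdiv : ∀ x ∈ p, ∃ s ∉ p, ∃ y, s * x = π * y) :
    let Q₂ := p.comap ((PowerSeries.constantCoeff).comp g)
    IsRegularLocalRing (Localization.AtPrime Q₂) ∧ ringKrullDim (Localization.AtPrime Q₂) = 2 ∧
      maximalIdeal (Localization.AtPrime Q₂) = Ideal.span {algebraMap R (Localization.AtPrime Q₂) (algebraMap A R π),
        algebraMap R (Localization.AtPrime Q₂) τ} := by
  classical
  intro Q₂
  letI : Algebra R (PowerSeries A) := g.toAlgebra
  haveI := hff
  let gA : R →+* A := (PowerSeries.constantCoeff).comp g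
  have hgA' : ∀ a, gA (algebraMap A R a) = a := fun a => by
    show PowerSeries.constantCoeff (g _) = a; rw [hgA, PowerSeries.constantCoeff_C]
  have hker : RingHom.ker gA = Ideal.span {τ} := by
    rw [← Ideal.comap_map_eq_self_of_faithfullyFlat (B := PowerSeries A) (Ideal.span {τ}), Ideal.map_span,
      Set.image_singleton, show algebraMap R (PowerSeries A) τ = PowerSeries.X from hτ]
    ext x
    rw [RingHom.mem_ker, Ideal.mem_comap, Ideal.mem_span_singleton, PowerSeries.X_dvd_iff]
    rfl
  let T := Localization.AtPrime Q₂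
  haveI : IsNoetherianRing T := IsLocalization.isNoetherianRing Q₂.primeCompl T inferInstance
  have hτQ : τ ∈ Q₂ := by
    show gA τ ∈ p
    rw [show gA τ = 0 from RingHom.mem_ker.1 (hker ▸ Ideal.mem_span_singleton_self τ)]
    exact zero_mem _
  have hπQ : algebraMap A R π ∈ Q₂ := by show gA _ ∈ p; rw [hgA']; exact hπp
  have hmax : maximalIdeal T = Ideal.span {algebraMap R T (algebraMap A R π), algebraMap R T τ} := by
    refine le_antisymm ?_ ?_
    · rw [← Localization.AtPrime.map_eq_maximalIdeal, Ideal.map_le_iff_le_comap]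
      intro x hx
      obtain ⟨s, hs, y, hy⟩ := hdiv (gA x) hx
      have h1 : algebraMap A R s * x - algebraMap A R π * algebraMap A R y ∈ RingHom.ker gA := by
        rw [RingHom.mem_ker, map_sub, map_mul, map_mul, hgA', hgA', hgA', hy, sub_self]
      rw [hker, Ideal.mem_span_singleton'] at h1
      obtain ⟨w, hw⟩ := h1
      obtain ⟨u, hu⟩ := IsLocalization.map_units T (⟨algebraMap A R s, fun h => hs (by simpa [Q₂, gA, hgA] using h)⟩ : Q₂.primeCompl)
      rw [Ideal.mem_comap, Ideal.mem_span_pair]
      refine ⟨↑u⁻¹ * algebraMap R T (algebraMap A R y), ↑u⁻¹ * algebraMap R T w, ?_⟩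
      have h2 : algebraMap R T (algebraMap A R s) * algebraMap R T x =
          algebraMap R T (algebraMap A R π) * algebraMap R T (algebraMap A R y) + algebraMap R T w * algebraMap R T τ := by
        simp only [← map_mul, ← map_add]; rw [hw, map_mul (algebraMap A R) π y]; congr 1; ring
      calc _ = ↑u⁻¹ * (algebraMap R T (algebraMap A R s) * algebraMap R T x) := by rw [h2]; ring
        _ = _ := by rw [← hu, Units.inv_mul_cancel_left]
    · rw [Ideal.span_le]
      rintro x (rfl | rfl) <;> rw [SetLike.mem_coe, ← Localization.AtPrime.map_eq_maximalIdeal] <;>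
        exact Ideal.mem_map_of_mem _ (by assumption)
  have hge : (2 : WithBot ℕ∞) ≤ ringKrullDim T := by
    rw [IsLocalization.AtPrime.ringKrullDim_eq_height Q₂]
    haveI : (RingHom.ker gA).IsPrime := RingHom.ker_isPrime _
    have h1 : (RingHom.ker gA).height < Q₂.height := Ideal.height_strict_mono_of_isPrime
      (lt_of_le_of_ne (fun x hx => by show gA x ∈ p; rw [RingHom.mem_ker.1 hx]; exact zero_mem _) fun he => hπ0 (by
        have := he.symm.le hπQ
        rwa [RingHom.mem_ker, hgA'] at this))
    have h2 : (⊥ : Ideal R).height < (RingHom.ker gA).height := Ideal.height_strict_mono_of_isPrime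
      (bot_lt_iff_ne_bot.2 fun he => by
        rw [hker, Ideal.span_singleton_eq_bot] at he
        rw [he, map_zero] at hτ
        exact PowerSeries.X_ne_zero hτ.symm)
    rw [Ideal.height_bot] at h2
    have h3 : (2 : ℕ∞) ≤ Q₂.height :=
      le_trans (by rw [show (2 : ℕ∞) = 1 + 1 from rfl]; exact add_le_add_left (Order.one_le_iff_pos.2 h2) 1) (Order.add_one_le_of_lt h1)
    exact WithBot.coe_le_coe.2 h3
  have hrank : (maximalIdeal T).spanFinrank ≤ 2 := by
    rw [hmax]
    refine le_trans (Submodule.spanFinrank_span_le_ncard_of_finite (Set.toFinite _)) ?_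
    exact le_trans (Set.ncard_insert_le _ _) (by rw [Set.ncard_singleton])
  have hle : ringKrullDim T ≤ 2 :=
    le_trans (ringKrullDim_le_spanFinrank_maximalIdeal T) (by exact_mod_cast hrank)
  refine ⟨IsRegularLocalRing.of_spanFinrank_maximalIdeal_le T (le_trans ?_ hge), le_antisymm hle hge, hmax⟩
  exact_mod_cast hrank

end Groth.Agent.HensLine
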