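import Groth.Agent.HensLine.Good
import Groth.Agent.HensLine.Primes
import Groth.Agent.HensLine.Field
import Groth.Agent.HensLine.BaseChange
import Groth.Agent.TauTriv.Main
import Mathlib

/-!
# Covers of the generic fibre of the henselised line are split by a finite extension
-/

set_option autoImplicit false
set_option linter.style.haveILetI false
set_option backward.isDefEq.respectTransparency false
set_option synthInstance.maxHeartbeats 400000
set_option maxHeartbeats 4000000

universe u

open IsLocalRing Polynomial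
open scoped TensorProduct

attribute [-instance] MvPowerSeries.instAlgebra MvPowerSeries.instModule

namespace Groth.Agent.HensLine

/-- The splitting, for a given extension of the base. -/
theorem split_core
    (A : Type u) [CommRing A] [IsDomain A] [IsIntegrallyClosed A] [IsNoetherianRing A] [HenselianLocalRing A]
    (R : Type u) [CommRing R] [IsLocalRing R] [IsDomain R] [IsIntegrallyClosed R] [IsNoetherianRing R]
    [Algebra A R] [Module.Flat A R]
    (g : R →+* PowerSeries A) (hff : letI := g.toAlgebra; Module.FaithfullyFlat R (PowerSeries A))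
    (hgA : ∀ a, g (algebraMap A R a) = PowerSeries.C a)
    (hAR : Function.Injective (algebraMap A R))
    (K : Type u) [Field K] [Algebra A K] [IsFractionRing A K]
    (RK : Type u) [CommRing RK] [Algebra R RK] [IsLocalization (Algebra.algebraMapSubmonoid R (nonZeroDivisors A)) RK]
    (E₀ : Type u) [CommRing E₀] [Algebra RK E₀] [Algebra.Etale RK E₀] [Module.Finite RK E₀]
    (evK : RK →+* K) (hevK : ∀ x, evK (algebraMap R RK x) = algebraMap A K (PowerSeries.constantCoeff (g x)))
    (N : ℕ) (hN : IsUnit (N : A))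
    (L : Type u) [Field L] [Algebra R L] [IsFractionRing R L] [Algebra RK L] [IsScalarTower R RK L]
    (hgal : ∀ (F : Type u) [Field F] [Algebra L F] (φ : L ⊗[RK] E₀ →ₐ[L] F), Function.Surjective φ →
      IsGalois L F ∧ Nat.card (F ≃ₐ[L] F) ∣ N)
    (bad : R) (hbad0 : bad ≠ 0) (hbad : ∀ (Q : Ideal R) [Q.IsPrime], Q.height ≤ 1 → bad ∉ Q →
      TauTriv.Good (L ⊗[RK] E₀) Q)
    (A' : Type u) [CommRing A'] [IsDomain A'] [IsIntegrallyClosed A'] [IsNoetherianRing A'] [HenselianLocalRing A']
    [Algebra A A'] [Algebra.IsIntegral A A'] (hAA' : Function.Injective (algebraMap A A'))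
    (K' : Type u) [Field K'] [Algebra A' K'] [IsFractionRing A' K'] [Algebra K K'] [Algebra A K']
    [IsScalarTower A A' K'] [IsScalarTower A K K']
    (hsplit : letI := evK.toAlgebra; ∃ (I : Type u) (_ : Fintype I), Nonempty (K' ⊗[K] (K ⊗[RK] E₀) ≃ₐ[K'] (I → K')))
    (hroot : ∀ Q ∈ (Ideal.span {bad}).minimalPrimes, Ideal.comap (algebraMap A R) Q ≠ ⊥ →
      ∃ π ∈ Ideal.comap (algebraMap A R) Q, π ≠ 0 ∧ (∀ x ∈ Ideal.comap (algebraMap A R) Q, ∃ s ∉ Ideal.comap (algebraMap A R) Q,
        ∃ y, s * x = π * y) ∧ ∃ z : A', z ^ N = algebraMap A A' π)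
    (D : Type u) [CommRing D] [IsLocalRing D] [Algebra (Localization.AtPrime (origin A')) D]
    [IsLocalHom (algebraMap (Localization.AtPrime (origin A')) D)]
    [_root_.Hensel.IsHenselization (Localization.AtPrime (origin A')) D]
    [Algebra A' D] (hAD : ∀ a, algebraMap A' D a = fromPoly A' D (C a))
    [Algebra R D] [Algebra.IsIntegral R D] (hinjD : Function.Injective (algebraMap R D))
    (hAD' : ∀ a, algebraMap R D (algebraMap A R a) = algebraMap A' D (algebraMap A A' a))
    (hgD : ∀ g' : D →+* PowerSeries A', (∀ q, g' (fromPoly A' D q) = (q : PowerSeries A')) → ∀ x,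
      PowerSeries.constantCoeff (g' (algebraMap R D x)) = algebraMap A A' (PowerSeries.constantCoeff (g x)))
    (T : Type u) [CommRing T] [Algebra D T] [IsLocalization (Algebra.algebraMapSubmonoid D (nonZeroDivisors A')) T]
    [Algebra RK T] (hT : ∀ x, algebraMap RK T (algebraMap R RK x) = algebraMap D T (algebraMap R D x)) :
    ∃ d : ℕ, Nonempty (T ⊗[RK] E₀ ≃ₐ[T] (ULift.{u} (Fin d) → T)) := by
  classical
  obtain ⟨hDd, hDn, hDnoe, hDh, g', hff', hg'⟩ := exists_toPowerSeries A' D
  haveI := hDd
  haveI := hDn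
  haveI := hDnoe
  haveI := hDh
  letI : Algebra R (PowerSeries A) := g.toAlgebra
  letI : Algebra D (PowerSeries A') := g'.toAlgebra
  haveI := hff'
  have hg'A : ∀ a, g' (algebraMap A' D a) = PowerSeries.C a := fun a => by
    rw [hAD, hg', Polynomial.coe_C]
  let gA' : D →+* A' := (PowerSeries.constantCoeff).comp g'
  have hgA' : ∀ a, gA' (algebraMap A' D a) = a := fun a => by
    show PowerSeries.constantCoeff (g' _) = a
    rw [hg'A, PowerSeries.constantCoeff_C]
  have hgAR : ∀ x, gA' (algebraMap R D x) = algebraMap A A' (PowerSeries.constantCoeff (g x)) := hgD g' hg'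
  haveI : Module.Flat A' D := by
    rw [← RingHom.flat_algebraMap_iff, show algebraMap A' D = (fromPoly A' D).comp C from RingHom.ext hAD, fromPoly]
    refine RingHom.Flat.comp (RingHom.flat_algebraMap_iff.2 (inferInstance : Module.Flat A' A'[X])) ?_
    exact RingHom.Flat.comp (RingHom.flat_algebraMap_iff.2 (IsLocalization.flat _ (origin A').primeCompl))
      (RingHom.flat_algebraMap_iff.2 (Hensel.henselization_flat _ D))
  have hA'D : Function.Injective (algebraMap A' D) := fun a b h => by
    have := congrArg gA' h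
    rwa [hgA', hgA'] at this
  haveI : FaithfulSMul R D := (faithfulSMul_iff_algebraMap_injective R D).2 hinjD
  have hcomap : ∀ Q' : Ideal D, ((Q'.comap (algebraMap A' D)).comap (algebraMap A A')) =
      (Q'.comap (algebraMap R D)).comap (algebraMap A R) := fun Q' => by
    ext a
    simp only [Ideal.mem_comap]
    rw [hAD']
  -- the generic algebras
  let L' := FractionRing D
  have hRL' : Function.Injective ((algebraMap D L').comp (algebraMap R D)) :=
    (IsFractionRing.injective D L').comp hinjD
  haveI : IsScalarTower R D L' := inferInstance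
  letI : Algebra L L' := (IsFractionRing.lift hRL').toAlgebra
  haveI : IsScalarTower R L L' := IsScalarTower.of_algebraMap_eq fun x =>
    (IsScalarTower.algebraMap_apply R D L' x).trans (IsFractionRing.lift_algebraMap hRL' x).symm
  letI : Algebra RK L' := ((algebraMap L L').comp (algebraMap RK L)).toAlgebra
  haveI : IsScalarTower RK L L' := IsScalarTower.of_algebraMap_eq fun _ => rfl
  have hRKL' : ∀ x, algebraMap RK L' (algebraMap R RK x) = algebraMap D L' (algebraMap R D x) := fun x => by
    show algebraMap L L' (algebraMap RK L (algebraMap R RK x)) = _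
    rw [← IsScalarTower.algebraMap_apply R RK L, ← IsScalarTower.algebraMap_apply R L L',
      IsScalarTower.algebraMap_apply R D L']
  let E := L ⊗[RK] E₀
  let E' := L' ⊗[RK] E₀
  haveI : IsScalarTower D L' E' := inferInstance
  let ee : L' ⊗[L] E ≃ₐ[L'] E' := Algebra.TensorProduct.cancelBaseChange RK L L' L' E₀
  -- primes over the generic point of the base
  have hgeneric : ∀ (Q' : Ideal D) [Q'.IsPrime], Q'.comap (algebraMap A' D) = ⊥ →
      ∃ (i : RK →+* Localization.AtPrime Q'), (∀ x, i (algebraMap R RK x) =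
        algebraMap D (Localization.AtPrime Q') (algebraMap R D x)) ∧
      TauTriv.Good E' Q' ∧ (letI := i.toAlgebra; Nonempty
        ((Localization.AtPrime Q' ⊗[D] integralClosure D E') ≃ₐ[Localization.AtPrime Q']
          (Localization.AtPrime Q' ⊗[RK] E₀))) := by
    intro Q' _ hQ'
    let T' := Localization.AtPrime Q'
    have hu : ∀ m : Algebra.algebraMapSubmonoid R (nonZeroDivisors A),
        IsUnit ((algebraMap D T').comp (algebraMap R D) m) := by
      rintro ⟨_, a, ha, rfl⟩
      refine IsLocalization.map_units T' (⟨algebraMap R D (algebraMap A R a), fun hmem => ?_⟩ : Q'.primeCompl)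
      rw [SetLike.mem_coe, hAD', ← Ideal.mem_comap, hQ', Ideal.mem_bot] at hmem
      exact nonZeroDivisors.ne_zero ha (hAA' (hmem.trans (map_zero _).symm))
    let i : RK →+* T' := IsLocalization.lift (M := Algebra.algebraMapSubmonoid R (nonZeroDivisors A)) hu
    have hi : ∀ x, i (algebraMap R RK x) = algebraMap D T' (algebraMap R D x) := fun x => IsLocalization.lift_eq hu x
    refine ⟨i, hi, ?_⟩
    letI : Algebra RK T' := i.toAlgebra
    let gT : T' →+* L' := IsLocalization.lift (M := Q'.primeCompl) (g := algebraMap D L') fun y =>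
      IsUnit.mk0 _ ((map_ne_zero_iff _ (IsFractionRing.injective D L')).2 fun h0 => y.2 (h0 ▸ Q'.zero_mem))
    letI : Algebra T' L' := gT.toAlgebra
    haveI : IsScalarTower D T' L' := IsScalarTower.of_algebraMap_eq fun x => (IsLocalization.lift_eq _ x).symm
    haveI : IsScalarTower RK T' L' := IsScalarTower.of_algebraMap_eq' (IsLocalization.ringHom_ext
      (Algebra.algebraMapSubmonoid R (nonZeroDivisors A)) (RingHom.ext fun x => by
        simp only [RingHom.comp_apply]
        rw [hRKL', show algebraMap RK T' (algebraMap R RK x) = _ from hi x, ← IsScalarTower.algebraMap_apply D T' L']))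
    let e : L' ⊗[T'] (T' ⊗[RK] E₀) ≃ₐ[L'] E' := Algebra.TensorProduct.cancelBaseChange RK T' L' L' E₀
    exact ⟨TauTriv.good_of_model L' E' Q' (T' ⊗[RK] E₀) e, TauTriv.exists_equiv_of_model L' E' Q' (T' ⊗[RK] E₀) e⟩
  -- primes of height one
  have hgood : ∀ (Q' : Ideal D) [Q'.IsPrime], Q'.height ≤ 1 → TauTriv.Good E' Q' := by
    intro Q' _ hQ'
    by_cases h0 : Q'.comap (algebraMap A' D) = ⊥
    · obtain ⟨i, -, h, -⟩ := hgeneric Q' h0
      exact h
    let Q := Q'.comap (algebraMap R D)
    have hQ : Q.height ≤ 1 := le_trans (height_under_le Q') hQ'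
    by_cases hb : bad ∈ Q
    swap
    · exact good_baseChange L L' E E' ee Q' Q rfl (hbad Q hQ hb)
    have hmin : Q ∈ (Ideal.span {bad}).minimalPrimes := by
      refine ⟨⟨inferInstance, (Ideal.span_singleton_le_iff_mem _).2 hb⟩, fun P ⟨hP, hbP⟩ hle => ?_⟩
      by_contra hne
      haveI := hP
      have h1 : P.height < Q.height := Ideal.height_strict_mono_of_isPrime (lt_of_le_not_ge hle hne)
      have h2 : (⊥ : Ideal R).height < P.height := Ideal.height_strict_mono_of_isPrime
        (bot_lt_iff_ne_bot.2 fun h => hbad0 ((Ideal.mem_bot).1 (h ▸ hbP (Ideal.mem_span_singleton_self bad))))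
      rw [Ideal.height_bot] at h2
      exact absurd (lt_of_le_of_lt (Order.one_le_iff_pos.2 h2) (lt_of_lt_of_le h1 hQ)) (lt_irrefl _)
    have hpA : Q.comap (algebraMap A R) ≠ ⊥ := fun h => h0 (by
      rw [← hcomap] at h
      exact Ideal.eq_bot_of_comap_eq_bot h)
    obtain ⟨π, hπQ, hπ0, hdiv, z, hz⟩ := hroot Q hmin hpA
    obtain ⟨-, -, hmax⟩ := eq_map_of_height_one g hgA hff hAR Q hQ hpA
    refine good_abhyankar L L' E E' ee Q' Q rfl hQ hQ' (algebraMap A R π)
      (fun h => hπ0 (hAR (h.trans (map_zero _).symm))) hπQ (hmax π hπQ hdiv) hinjD N ?_ (algebraMap A' D z) ?_ hgal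
    · exact IsUnit.ne_zero (by
        simpa using ((hN.map (algebraMap A R)).map (algebraMap R (Localization.AtPrime Q))).map (residue (Localization.AtPrime Q)))
    · rw [← map_pow, hz, hAD']
  -- primes on the zero section
  have hgoodp : ∀ (p : Ideal A') [p.IsPrime], p.height ≤ 1 → TauTriv.Good E' (p.comap gA') := by
    intro p _ hp
    by_cases hp0 : p = ⊥
    · obtain ⟨i, -, h, -⟩ := hgeneric (p.comap gA') (by
        subst hp0
        ext a
        rw [Ideal.mem_comap, Ideal.mem_comap, hgA'])
      exact h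
    obtain ⟨π, hπp, hπ0, hdiv⟩ := exists_uniformizer A' p hp hp0
    obtain ⟨hreg, hdim, hmax⟩ := regular_zeroSection g' hg'A hff' hA'D (fromPoly A' D X)
      ((hg' X).trans Polynomial.coe_X) p π hπp hπ0 hdiv
    let Q₂ := p.comap gA'
    let T₂ := Localization.AtPrime Q₂
    haveI : IsRegularLocalRing T₂ := hreg
    haveI : IsDomain T₂ := IsLocalization.isDomain_localization Q₂.primeCompl_le_nonZeroDivisors
    haveI : IsIntegrallyClosed T₂ := isIntegrallyClosed_of_isLocalization T₂ Q₂.primeCompl Q₂.primeCompl_le_nonZeroDivisors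
    haveI : IsNoetherianRing T₂ := IsLocalization.isNoetherianRing Q₂.primeCompl T₂ inferInstance
    haveI : Module.Flat D T₂ := IsLocalization.flat T₂ Q₂.primeCompl
    let gT : T₂ →+* L' := IsLocalization.lift (M := Q₂.primeCompl) (g := algebraMap D L') fun y =>
      IsUnit.mk0 _ ((map_ne_zero_iff _ (IsFractionRing.injective D L')).2 fun h0 => y.2 (h0 ▸ Q₂.zero_mem))
    letI : Algebra T₂ L' := gT.toAlgebra
    haveI : IsScalarTower D T₂ L' := IsScalarTower.of_algebraMap_eq fun x => (IsLocalization.lift_eq _ x).symm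
    haveI : IsFractionRing T₂ L' := IsFractionRing.isFractionRing_of_isDomain_of_isLocalization Q₂.primeCompl T₂ L'
    haveI : IsScalarTower T₂ L' E' := inferInstance
    have hgood2 : ∀ (q : Ideal T₂) [q.IsPrime], q.height ≤ 1 → TauTriv.Good E' q := fun q _ hq =>
      good_baseChange L' L' E' E' (Algebra.TensorProduct.lid L' E') q (q.comap (algebraMap D T₂)) rfl
        (hgood _ (le_trans (height_under_le q) hq))
    obtain ⟨het, hfin⟩ := good_of_dim_two T₂ L' E' hdim (algebraMap D T₂ (algebraMap A' D π))
      (algebraMap D T₂ (fromPoly A' D X))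
      (fun h => hπ0 (hA'D (IsLocalization.injective T₂ Q₂.primeCompl_le_nonZeroDivisors
        (by rw [h, map_zero, map_zero])))) hmax hgood2
    haveI := het
    haveI := hfin
    haveI : Module.Finite L' E' := Algebra.FormallyUnramified.finite_of_free L' E'
    exact TauTriv.good_of_model L' E' Q₂ (integralClosure T₂ E')
      (AlgEquiv.ofBijective _ (TauTriv.bijective_evT (R := T₂) L' E'))
  -- the zero section
  letI : Algebra D K' := ((algebraMap A' K').comp gA').toAlgebra
  let C' := integralClosure D E'
  obtain ⟨I, hI, ⟨θ⟩⟩ : ∃ (I : Type u) (_ : Fintype I), Nonempty (K' ⊗[D] C' ≃ₐ[K'] (I → K')) := by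
    let Q₀ : Ideal D := (⊥ : Ideal A').comap gA'
    obtain ⟨i, hi, -, ⟨Φ⟩⟩ := hgeneric Q₀ (by
      ext a
      rw [Ideal.mem_comap, Ideal.mem_comap, hgA'])
    let T₀ := Localization.AtPrime Q₀
    letI : Algebra RK T₀ := i.toAlgebra
    let gK : T₀ →+* K' := IsLocalization.lift (M := Q₀.primeCompl) (g := algebraMap D K') fun y =>
      IsUnit.mk0 _ ((map_ne_zero_iff _ (IsFractionRing.injective A' K')).2 fun h0 => y.2 h0)
    letI : Algebra T₀ K' := gK.toAlgebra
    haveI : IsScalarTower D T₀ K' := IsScalarTower.of_algebraMap_eq fun x => (IsLocalization.lift_eq _ x).symm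
    letI : Algebra RK K := evK.toAlgebra
    letI : Algebra RK K' := ((algebraMap T₀ K').comp (algebraMap RK T₀)).toAlgebra
    haveI : IsScalarTower RK T₀ K' := IsScalarTower.of_algebraMap_eq fun _ => rfl
    haveI : IsScalarTower RK K K' := IsScalarTower.of_algebraMap_eq' (IsLocalization.ringHom_ext
      (Algebra.algebraMapSubmonoid R (nonZeroDivisors A)) (RingHom.ext fun x => by
        simp only [RingHom.comp_apply]
        show algebraMap T₀ K' (i (algebraMap R RK x)) = algebraMap K K' (evK (algebraMap R RK x))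
        rw [hi, hevK, ← IsScalarTower.algebraMap_apply D T₀ K', ← IsScalarTower.algebraMap_apply A K K']
        show algebraMap A' K' (gA' _) = _
        rw [hgAR, ← IsScalarTower.algebraMap_apply A A' K']))
    obtain ⟨I, hI, ⟨ψ⟩⟩ := hsplit
    exact ⟨I, hI, ⟨(Algebra.TensorProduct.cancelBaseChange D T₀ K' K' C').symm.trans
      ((Algebra.TensorProduct.congr (AlgEquiv.refl : K' ≃ₐ[K'] K') Φ).trans
        ((Algebra.TensorProduct.cancelBaseChange RK T₀ K' K' E₀).trans
          ((Algebra.TensorProduct.cancelBaseChange RK K K' K' E₀).symm.trans ψ)))⟩⟩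
  obtain ⟨hCet, hCfin⟩ := TauTriv.etale_of_split_zeroLocus L' E' A' K' (fun _ => rfl)
    (fun a => ⟨algebraMap A' D a, hgA' a⟩) hgood hgoodp θ
  haveI := hCet
  haveI := hCfin
  -- the closed fibre
  obtain ⟨ψ⟩ : Nonempty (C' ≃ₐ[D] (I → D)) := by
    letI : Algebra D A' := gA'.toAlgebra
    haveI : IsScalarTower D A' K' := IsScalarTower.of_algebraMap_eq fun _ => rfl
    haveI : Algebra.Etale D C' := hCet
    haveI : Algebra.Etale A' (A' ⊗[D] C') := Algebra.Etale.baseChange D C' A'
    haveI : Module.Finite A' (A' ⊗[D] C') := Module.Finite.base_change D A' C'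
    obtain ⟨ψA⟩ := split_of_generic A' K' (A' ⊗[D] C')
      ((Algebra.TensorProduct.cancelBaseChange D A' K' K' C').trans θ)
    let k := ResidueField D
    letI : Algebra A' k := ((residue D).comp (algebraMap A' D)).toAlgebra
    haveI : IsScalarTower D A' k := IsScalarTower.of_algebraMap_eq fun x => by
      show residue D x = residue D (algebraMap A' D (gA' x))
      rw [← sub_eq_zero, ← map_sub, residue_eq_zero_iff, mem_maximalIdeal, mem_nonunits_iff]
      intro hu
      have := hu.map gA'
      rw [map_sub, hgA', sub_self] at this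
      exact not_isUnit_zero this
    exact split_of_residue D C' ((Algebra.TensorProduct.cancelBaseChange D A' k k C').symm.trans
      ((Algebra.TensorProduct.congr (AlgEquiv.refl : k ≃ₐ[k] k) ψA).trans
        (Algebra.TensorProduct.piScalarRight A' k k I)))
  -- the generic fibre of the base
  haveI : IsDomain T := IsLocalization.isDomain_of_le_nonZeroDivisors T
    (show Algebra.algebraMapSubmonoid D (nonZeroDivisors A') ≤ nonZeroDivisors D by
      rintro _ ⟨a, ha, rfl⟩
      exact mem_nonZeroDivisors_of_ne_zero ((map_ne_zero_iff _ hA'D).2 (nonZeroDivisors.ne_zero ha)))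
  have hM : Algebra.algebraMapSubmonoid D (nonZeroDivisors A') ≤ nonZeroDivisors D := by
    rintro _ ⟨a, ha, rfl⟩
    exact mem_nonZeroDivisors_of_ne_zero ((map_ne_zero_iff _ hA'D).2 (nonZeroDivisors.ne_zero ha))
  haveI : IsIntegrallyClosed T := isIntegrallyClosed_of_isLocalization T _ hM
  let gTL : T →+* L' := IsLocalization.lift (M := Algebra.algebraMapSubmonoid D (nonZeroDivisors A'))
    (g := algebraMap D L') fun y => IsUnit.mk0 _ ((map_ne_zero_iff _ (IsFractionRing.injective D L')).2
      (nonZeroDivisors.ne_zero (hM y.2)))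
  letI : Algebra T L' := gTL.toAlgebra
  haveI : IsScalarTower D T L' := IsScalarTower.of_algebraMap_eq fun x => (IsLocalization.lift_eq _ x).symm
  haveI : IsFractionRing T L' :=
    IsFractionRing.isFractionRing_of_isDomain_of_isLocalization (Algebra.algebraMapSubmonoid D (nonZeroDivisors A')) T L'
  haveI : IsScalarTower RK T L' := IsScalarTower.of_algebraMap_eq' (IsLocalization.ringHom_ext
    (Algebra.algebraMapSubmonoid R (nonZeroDivisors A)) (RingHom.ext fun x => by
      simp only [RingHom.comp_apply]
      rw [hRKL', hT, ← IsScalarTower.algebraMap_apply D T L']))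
  haveI : Module.Finite L' E' := Algebra.FormallyUnramified.finite_of_free L' E'
  obtain ⟨φ⟩ := split_of_generic T L' (T ⊗[RK] E₀) ((Algebra.TensorProduct.cancelBaseChange RK T L' L' E₀).trans
    ((AlgEquiv.ofBijective _ (TauTriv.bijective_evT (R := D) L' E')).symm.trans
      ((Algebra.TensorProduct.congr (AlgEquiv.refl : L' ≃ₐ[L'] L') ψ).trans
        (Algebra.TensorProduct.piScalarRight D L' L' I))))
  exact ⟨Fintype.card I, ⟨φ.trans (AlgEquiv.piCongrLeft T (fun _ : ULift.{u} (Fin (Fintype.card I)) => T)
    ((Fintype.equivFin I).trans Equiv.ulift.symm))⟩⟩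

end Groth.Agent.HensLine
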