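import Mathlib

/-!
# Factors of torsor algebras over fields are Galois
-/

set_option autoImplicit false
set_option linter.style.haveILetI false

universe u

namespace Groth.Agent.HensLine

/-- A field factor of an algebra whose geometric points form a torsor is Galois of dividing degree. -/
theorem galois_factor {L E F Ω : Type u} [Field L] [CommRing E] [Algebra L E] [Field F] [Algebra L F]
    [FiniteDimensional L F] [Algebra.IsSeparable L F] [Field Ω] [Algebra L Ω] [IsAlgClosed Ω]
    {G : Type u} [Group G] [Finite G] (act : G → (E →ₐ[L] E)) (act_one : act 1 = AlgHom.id L E)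
    (act_mul : ∀ g h, act (g * h) = (act h).comp (act g))
    (htor : ∀ σ τ : E →ₐ[L] Ω, ∃! g, σ.comp (act g) = τ)
    (φ : E →ₐ[L] F) (hφ : Function.Surjective φ) :
    IsGalois L F ∧ Nat.card (F ≃ₐ[L] F) ∣ Nat.card G := by
  classical
  let σ₀ : F →ₐ[L] Ω := IsAlgClosed.lift
  let M : Submonoid G :=
    { carrier := {g | ∀ x, φ x = 0 → φ (act g x) = 0}
      one_mem' := fun x hx => by rw [act_one]; exact hx
      mul_mem' := fun {g h} hg hh x hx => by rw [act_mul]; exact hh _ (hg x hx) }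
  let H : Subgroup G :=
    { M with
      inv_mem' := fun {g} hg => by
        obtain ⟨k, hk⟩ : g⁻¹ ∈ Submonoid.powers g := by
          obtain ⟨n, hn, hn'⟩ := (isOfFinOrder_of_finite g).exists_pow_eq_one
          exact ⟨n - 1, inv_eq_of_mul_eq_one_left (by rw [← pow_succ, Nat.sub_add_cancel hn, hn']) |>.symm⟩
        show g⁻¹ ∈ M
        rw [← hk]
        exact pow_mem hg k }
  let α : H → (F →ₐ[L] F) := fun g => AlgHom.liftOfSurjective φ hφ (φ.comp (act g.1)) (fun x hx => g.2 x hx)
  have hα : ∀ g x, α g (φ x) = φ (act g.1 x) := fun g x => AlgHom.liftOfSurjective_apply _ _ _ _ _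
  let β : H → (F →ₐ[L] Ω) := fun g => σ₀.comp (α g)
  have hβinj : Function.Injective β := fun g h e => by
    obtain ⟨k, -, hu⟩ := htor (σ₀.comp φ) ((β g).comp φ)
    have h1 : ∀ g' : H, β g' = β g → g'.1 = k := fun g' e' => hu _ (AlgHom.ext fun x => by
      show σ₀ (φ (act g'.1 x)) = β g (φ x)
      rw [← hα, ← e']
      rfl)
    exact Subtype.ext ((h1 g rfl).trans (h1 h e.symm).symm)
  have hβsurj : Function.Surjective β := fun τ => by
    obtain ⟨g, hg, -⟩ := htor (σ₀.comp φ) (τ.comp φ)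
    have hmem : g ∈ H := fun x hx => σ₀.toRingHom.injective (by
      show σ₀ (φ (act g x)) = σ₀ 0
      rw [map_zero, show σ₀ (φ (act g x)) = τ (φ x) from AlgHom.congr_fun hg x, hx, map_zero])
    refine ⟨⟨g, hmem⟩, AlgHom.ext fun y => ?_⟩
    obtain ⟨x, rfl⟩ := hφ y
    show σ₀ (α ⟨g, hmem⟩ (φ x)) = τ (φ x)
    rw [hα]
    exact AlgHom.congr_fun hg x
  have hauts : Function.Bijective fun a : F ≃ₐ[L] F => σ₀.comp a.toAlgHom := by
    refine ⟨fun a b e => AlgEquiv.ext fun y => σ₀.toRingHom.injective (AlgHom.congr_fun e y), fun τ => ?_⟩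
    obtain ⟨g, rfl⟩ := hβsurj τ
    exact ⟨AlgEquiv.ofBijective (α g) (Algebra.IsAlgebraic.algHom_bijective (α g)), AlgHom.ext fun y => rfl⟩
  have hcard : Nat.card (F →ₐ[L] Ω) = Module.finrank L F := by
    rw [Nat.card_eq_fintype_card, AlgHom.card]
  have hcard' : Nat.card (F ≃ₐ[L] F) = Module.finrank L F := (Nat.card_eq_of_bijective _ hauts).trans hcard
  refine ⟨IsGalois.of_card_aut_eq_finrank L F hcard', ?_⟩
  rw [Nat.card_eq_of_bijective _ hauts, ← Nat.card_eq_of_bijective β ⟨hβinj, hβsurj⟩]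
  exact H.card_subgroup_dvd_card

end Groth.Agent.HensLine
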