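import Mathlib

/-!
# Maps of finite étale algebras detected on geometric points
-/

set_option autoImplicit false
set_option linter.style.haveILetI false
set_option maxHeartbeats 1000000

universe u

open scoped TensorProduct

namespace Groth.Agent.HensLine

/-- A map of finite étale algebras over an algebraically closed field which is bijective on points is bijective. -/
theorem bijective_of_points_field (k B C : Type u) [Field k] [IsAlgClosed k] [CommRing B] [Algebra k B]
    [Algebra.Etale k B] [CommRing C] [Algebra k C] [Algebra.Etale k C] (f : B →ₐ[k] C)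
    (h : Function.Bijective fun σ : C →ₐ[k] k => σ.comp f) : Function.Bijective f := by
  classical
  haveI : Module.Finite k B := Algebra.FormallyUnramified.finite_of_free k B
  haveI : Module.Finite k C := Algebra.FormallyUnramified.finite_of_free k C
  have hsplit : ∀ (D : Type u) [CommRing D] [Algebra k D] [Algebra.Etale k D],
      Module.finrank k D = Nat.card (D →ₐ[k] k) ∧ ∀ x : D, (∀ σ : D →ₐ[k] k, σ x = 0) → x = 0 := by
    intro D _ _ _
    obtain ⟨I, _, Ai, _, _, e, hAi⟩ := (Algebra.Etale.iff_exists_algEquiv_prod k D).1 inferInstance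
    haveI := Fintype.ofFinite I
    have hb : ∀ i, Function.Bijective (algebraMap k (Ai i)) := fun i => by
      haveI := (hAi i).1
      exact IsAlgClosed.algebraMap_bijective_of_isIntegral
    let e' : D ≃ₐ[k] (I → k) :=
      e.trans (AlgEquiv.piCongrRight fun i => (AlgEquiv.ofBijective (Algebra.ofId k (Ai i)) (hb i)).symm)
    let ev : I → (D →ₐ[k] k) := fun i => (Pi.evalAlgHom k (fun _ : I => k) i).comp e'.toAlgHom
    have hev : ∀ x, (∀ i, ev i x = 0) → x = 0 := fun x hx => e'.injective (by rw [map_zero]; exact funext hx)
    have hevbij : Function.Bijective ev := by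
      refine ⟨fun i j hij => by_contra fun hne => ?_, fun σ => ?_⟩
      · have h1 := AlgHom.congr_fun hij (e'.symm (Pi.single i 1))
        simp [ev, hne, Ne.symm hne] at h1
      · let τ : (I → k) →ₐ[k] k := σ.comp e'.symm.toAlgHom
        obtain ⟨i, hi⟩ : ∃ i, τ (Pi.single i 1) ≠ 0 := by
          by_contra hall
          push Not at hall
          have h1 := map_one τ
          rw [show (1 : I → k) = ∑ i, Pi.single i 1 from (Finset.univ_sum_single (1 : I → k)).symm, map_sum] at h1
          simp [hall] at h1
        refine ⟨i, AlgHom.ext fun x => ?_⟩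
        have h2 : τ (e' x) * τ (Pi.single i 1) = τ (e' x i • Pi.single i 1) := by
          rw [← map_mul]
          congr 1
          funext j
          by_cases hj : j = i
          · subst hj; simp
          · simp [hj]
        rw [map_smul, smul_eq_mul] at h2
        show e' x i = σ x
        have h3 := mul_right_cancel₀ hi h2
        simpa [τ] using h3.symm
    refine ⟨?_, fun x hx => hev x fun i => hx _⟩
    rw [e'.toLinearEquiv.finrank_eq, Module.finrank_fintype_fun_eq_card, ← Nat.card_eq_fintype_card]
    exact Nat.card_eq_of_bijective ev hevbij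
  have hinj : Function.Injective f := by
    refine (injective_iff_map_eq_zero f).2 fun x hx => (hsplit B).2 x fun σ => ?_
    obtain ⟨τ, rfl⟩ := h.2 σ
    show τ (f x) = 0
    rw [hx, map_zero]
  refine ⟨hinj, (LinearMap.injective_iff_surjective_of_finrank_eq_finrank (f := f.toLinearMap) ?_).1 hinj⟩
  rw [(hsplit B).1, (hsplit C).1]
  exact (Nat.card_eq_of_bijective _ h).symm

/-- A map of finite étale algebras which is bijective on geometric points is bijective. -/
theorem bijective_of_points (A B C : Type u) [CommRing A] [CommRing B] [Algebra A B] [Algebra.Etale A B]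
    [Module.Finite A B] [CommRing C] [Algebra A C] [Algebra.Etale A C] [Module.Finite A C] (f : B →ₐ[A] C)
    (h : ∀ (k : Type u) [Field k] [IsAlgClosed k] [Algebra A k],
      Function.Bijective fun σ : C →ₐ[A] k => σ.comp f) : Function.Bijective f := by
  classical
  haveI : Module.FinitePresentation A C := Module.FinitePresentation.of_finite_of_finitePresentation A C
  haveI : Module.Projective A C := Module.Flat.projective_of_finitePresentation
  have hfib : ∀ (m : Ideal A) [m.IsMaximal], Function.Bijective (f.toLinearMap.baseChange (A ⧸ m)) := by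
    intro m _
    letI := Ideal.Quotient.field m
    let k := AlgebraicClosure (A ⧸ m)
    let fk : k ⊗[A] B →ₐ[k] k ⊗[A] C := Algebra.TensorProduct.map (AlgHom.id k k) f
    have hk : Function.Bijective fk := by
      refine bijective_of_points_field k _ _ fk ⟨fun σ₁ σ₂ h12 => ?_, fun τ => ?_⟩
      · refine Algebra.TensorProduct.ext (AlgHom.ext fun x => (σ₁.commutes x).trans (σ₂.commutes x).symm) ((h k).1 (AlgHom.ext fun x => ?_))
        have := AlgHom.congr_fun h12 ((1 : k) ⊗ₜ[A] x)
        simpa [fk] using this
      · obtain ⟨σ, hσ⟩ := (h k).2 ((τ.restrictScalars A).comp Algebra.TensorProduct.includeRight)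
        refine ⟨Algebra.TensorProduct.lift (Algebra.ofId k k) σ fun _ _ => mul_comm _ _,
          Algebra.TensorProduct.ext (AlgHom.ext fun x => ?_) (AlgHom.ext fun x => ?_)⟩
        · simp only [AlgHom.comp_apply, Algebra.TensorProduct.includeLeft_apply, fk, Algebra.TensorProduct.map_tmul, AlgHom.id_apply, map_one, mul_one]
          exact (Algebra.TensorProduct.lift_tmul _ _ _ x 1).trans ((by rw [map_one, mul_one]; rfl : Algebra.ofId k k x * σ 1 = x).trans (τ.commutes x).symm)
        · simpa [fk] using AlgHom.congr_fun hσ x
    let eB := TensorProduct.AlgebraTensorModule.cancelBaseChange A (A ⧸ m) k k B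
    let eC := TensorProduct.AlgebraTensorModule.cancelBaseChange A (A ⧸ m) k k C
    have hcomm : ∀ z, eC ((f.toLinearMap.baseChange (A ⧸ m)).lTensor k z) = fk (eB z) := by
      intro z
      induction z using TensorProduct.induction_on with
      | zero => simp
      | tmul t w =>
        induction w using TensorProduct.induction_on with
        | zero => simp
        | tmul a b => simp [eB, eC, fk, TensorProduct.smul_tmul']
        | add x y hx hy => rw [TensorProduct.tmul_add]; simp only [map_add, hx, hy]
      | add x y hx hy => simp only [map_add, hx, hy]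
    refine (Module.FaithfullyFlat.lTensor_bijective_iff_bijective (A ⧸ m) k _).1 ?_
    refine ⟨fun x y hxy => eB.injective (hk.1 (by rw [← hcomm, ← hcomm, hxy])), fun y => ?_⟩
    obtain ⟨x, hx⟩ := hk.2 (eC y)
    exact ⟨eB.symm x, eC.injective (by rw [hcomm, LinearEquiv.apply_symm_apply, hx])⟩
  -- a finite module with trivial fibres vanishes
  have hzero : ∀ (Q : Type u) [AddCommGroup Q] [Module A Q] [Module.Finite A Q],
      (∀ (m : Ideal A) [m.IsMaximal] (q : (A ⧸ m) ⊗[A] Q), q = 0) → ∀ q : Q, q = 0 := by
    intro Q _ _ _ hQ q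
    by_contra hq
    obtain ⟨m, hm, hle⟩ := Ideal.exists_le_maximal (LinearMap.ker (LinearMap.toSpanSingleton A Q q))
      (fun h1 => hq (by
        have : (1 : A) ∈ LinearMap.ker (LinearMap.toSpanSingleton A Q q) := h1 ▸ Submodule.mem_top
        simpa using this))
    haveI := hm
    have htop : (⊤ : Submodule A Q) ≤ m • (⊤ : Submodule A Q) := fun x _ => by
      rw [← LinearMap.ker_tensorProductMk, LinearMap.mem_ker]
      exact hQ m _
    obtain ⟨r, hr, hrq⟩ := Submodule.exists_sub_one_mem_and_smul_eq_zero_of_fg_of_le_smul m ⊤ Module.Finite.fg_top htop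
    have hrm : r ∈ m := hle (by simpa using hrq q Submodule.mem_top)
    exact hm.ne_top ((Ideal.eq_top_iff_one m).2 (by simpa using Ideal.sub_mem m hrm hr))
  have hsurj : Function.Surjective f := by
    let p := Submodule.mkQ (LinearMap.range f.toLinearMap)
    have h0 := hzero (C ⧸ LinearMap.range f.toLinearMap) fun m _ q => by
      obtain ⟨y, rfl⟩ := LinearMap.lTensor_surjective (A ⧸ m) (Submodule.mkQ_surjective _) q
      obtain ⟨x, rfl⟩ := (hfib m).2 y
      rw [LinearMap.baseChange_eq_ltensor, ← LinearMap.comp_apply, ← LinearMap.lTensor_comp,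
        LinearMap.range_mkQ_comp, LinearMap.lTensor_zero, LinearMap.zero_apply]
    intro y
    exact (Submodule.Quotient.mk_eq_zero _).1 (h0 (Submodule.Quotient.mk y))
  refine ⟨?_, hsurj⟩
  obtain ⟨g, hg⟩ := Module.projective_lifting_property f.toLinearMap (LinearMap.id : C →ₗ[A] C) hsurj
  let r : B →ₗ[A] B := LinearMap.id - g ∘ₗ f.toLinearMap
  haveI : Module.Finite A (LinearMap.range r) := Module.Finite.range r
  have hr : ∀ x, f (r x) = 0 := fun x => by
    show f (x - g (f x)) = 0
    rw [map_sub, show f (g (f x)) = f x from LinearMap.congr_fun hg (f x), sub_self]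
  have hfg : f.toLinearMap ∘ₗ (LinearMap.range r).subtype = 0 :=
    LinearMap.ext fun ⟨_, x, rfl⟩ => hr x
  have hrr : r.rangeRestrict ∘ₗ (LinearMap.range r).subtype = LinearMap.id := LinearMap.ext fun ⟨_, x, rfl⟩ => Subtype.ext (by
    show r x - g (f (r x)) = r x
    rw [hr, map_zero, sub_zero])
  have h0 := hzero (LinearMap.range r) fun m _ q => by
    have h1 : (LinearMap.range r).subtype.lTensor (A ⧸ m) q = 0 := (hfib m).1 (by
      rw [map_zero, LinearMap.baseChange_eq_ltensor, ← LinearMap.comp_apply, ← LinearMap.lTensor_comp, hfg,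
        LinearMap.lTensor_zero, LinearMap.zero_apply])
    rw [← LinearMap.id_apply (R := A) q, ← LinearMap.lTensor_id, ← hrr, LinearMap.lTensor_comp, LinearMap.comp_apply,
      h1, map_zero]
  refine (injective_iff_map_eq_zero f).2 fun x hx => ?_
  have h2 : r x = 0 := congrArg Subtype.val (h0 ⟨r x, x, rfl⟩)
  simpa [r, hx] using h2

end Groth.Agent.HensLine
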