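import Groth.Agent.HensLine.Core
import Mathlib

/-!
# Splitting covers of the generic fibre of the henselised line
-/

set_option autoImplicit false
set_option linter.style.haveILetI false
set_option backward.isDefEq.respectTransparency false
set_option synthInstance.maxHeartbeats 400000
set_option maxHeartbeats 2000000

universe u

open IsLocalRing Polynomial
open scoped TensorProduct

attribute [-instance] MvPowerSeries.instAlgebra MvPowerSeries.instModule

namespace Groth.Agent.HensLine

attribute [local instance] Algebra.TensorProduct.rightAlgebra in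
/-- A finite étale Galois algebra of prime-to-residue-characteristic order on the generic fibre of the henselised
line is split by a finite separable extension of the ground field. -/
theorem exists_split
    (A : Type u) [CommRing A] [IsDomain A] [IsIntegrallyClosed A] [IsNoetherianRing A] [HenselianLocalRing A]
    (R : Type u) [CommRing R] [IsLocalRing R] [Algebra (Localization.AtPrime (origin A)) R]
    [IsLocalHom (algebraMap (Localization.AtPrime (origin A)) R)]
    [_root_.Hensel.IsHenselization (Localization.AtPrime (origin A)) R]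
    [Algebra A R] (hAR : ∀ a, algebraMap A R a = fromPoly A R (C a))
    (K : Type u) [Field K] [Algebra A K] [IsFractionRing A K]
    (RK : Type u) [CommRing RK] [Algebra R RK] [IsLocalization (Algebra.algebraMapSubmonoid R (nonZeroDivisors A)) RK]
    (E₀ : Type u) [CommRing E₀] [Algebra RK E₀] [Algebra.Etale RK E₀] [Module.Finite RK E₀]
    (N : ℕ) (hN : (N : ResidueField A) ≠ 0)
    (hgal : ∀ (L : Type u) [Field L] [Algebra R L] [IsFractionRing R L] [Algebra RK L] [IsScalarTower R RK L]
      (F : Type u) [Field F] [Algebra L F] (φ : L ⊗[RK] E₀ →ₐ[L] F), Function.Surjective φ →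
        IsGalois L F ∧ Nat.card (F ≃ₐ[L] F) ∣ N) :
    ∃ (T : Type u) (_ : CommRing T) (_ : Algebra R T) (_ : Algebra RK T) (_ : IsScalarTower R RK T) (d : ℕ),
      Nonempty (T ⊗[RK] E₀ ≃ₐ[T] (ULift.{u} (Fin d) → T)) ∧
      ∀ (Ω : Type u) [Field Ω] [IsSepClosed Ω] [Algebra A Ω], Function.Injective (algebraMap A Ω) →
        Nonempty (T →ₐ[R] R ⊗[A] Ω) := by
  classical
  obtain ⟨hRd, hRn, hRnoe, hRh, g, hff, hg⟩ := exists_toPowerSeries A R
  haveI := hRd
  haveI := hRn
  haveI := hRnoe
  have hgA : ∀ a, g (algebraMap A R a) = PowerSeries.C a := fun a => by rw [hAR, hg, Polynomial.coe_C]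
  have hinj : Function.Injective (algebraMap A R) := fun a b h => by
    have := congrArg g h
    rw [hgA, hgA] at this
    exact PowerSeries.C_injective this
  haveI : Module.Flat A R := by
    rw [← RingHom.flat_algebraMap_iff, show algebraMap A R = (fromPoly A R).comp C from RingHom.ext hAR, fromPoly]
    refine RingHom.Flat.comp (RingHom.flat_algebraMap_iff.2 (inferInstance : Module.Flat A A[X])) ?_
    exact RingHom.Flat.comp (RingHom.flat_algebraMap_iff.2 (IsLocalization.flat _ (origin A).primeCompl))
      (RingHom.flat_algebraMap_iff.2 (Hensel.henselization_flat _ R))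
  have hM : Algebra.algebraMapSubmonoid R (nonZeroDivisors A) ≤ nonZeroDivisors R := by
    rintro _ ⟨a, ha, rfl⟩
    exact mem_nonZeroDivisors_of_ne_zero ((map_ne_zero_iff _ hinj).2 (nonZeroDivisors.ne_zero ha))
  let L := FractionRing R
  let iL : RK →+* L := IsLocalization.lift (M := Algebra.algebraMapSubmonoid R (nonZeroDivisors A))
    (g := algebraMap R L) fun y => IsUnit.mk0 _ ((map_ne_zero_iff _ (IsFractionRing.injective R L)).2
      (nonZeroDivisors.ne_zero (hM y.2)))
  letI : Algebra RK L := iL.toAlgebra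
  haveI : IsScalarTower R RK L := IsScalarTower.of_algebraMap_eq fun x => (IsLocalization.lift_eq _ x).symm
  obtain ⟨bad, hbad0, hbad⟩ := exists_ne_zero_good (R := R) L (L ⊗[RK] E₀)
  -- the residual algebra
  let gA : R →+* A := (PowerSeries.constantCoeff).comp g
  have hgA' : ∀ a, gA (algebraMap A R a) = a := fun a => by
    show PowerSeries.constantCoeff (g _) = a
    rw [hgA, PowerSeries.constantCoeff_C]
  let evK : RK →+* K := IsLocalization.lift (M := Algebra.algebraMapSubmonoid R (nonZeroDivisors A))
    (g := (algebraMap A K).comp gA) (by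
      rintro ⟨_, a, ha, rfl⟩
      refine IsUnit.mk0 _ ?_
      show algebraMap A K (gA (algebraMap A R a)) ≠ 0
      rw [hgA']
      exact (map_ne_zero_iff _ (IsFractionRing.injective A K)).2 (nonZeroDivisors.ne_zero ha))
  have hevK : ∀ x, evK (algebraMap R RK x) = algebraMap A K (PowerSeries.constantCoeff (g x)) := fun x =>
    IsLocalization.lift_eq _ x
  letI : Algebra RK K := evK.toAlgebra
  -- the uniformizers
  have hfin := Ideal.finite_minimalPrimes_of_isNoetherianRing R (Ideal.span {bad})
  have hunif : ∀ Q : Ideal R, Q ∈ (Ideal.span {bad}).minimalPrimes → Ideal.comap (algebraMap A R) Q ≠ ⊥ →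
      ∃ π ∈ Ideal.comap (algebraMap A R) Q, π ≠ 0 ∧
        ∀ x ∈ Ideal.comap (algebraMap A R) Q, ∃ s ∉ Ideal.comap (algebraMap A R) Q, ∃ y, s * x = π * y := by
    intro Q hQ hQ0
    haveI : Q.IsPrime := hQ.1.1
    haveI : (Ideal.span {bad}).IsPrincipal := ⟨⟨bad, rfl⟩⟩
    refine exists_uniformizer A _ (le_trans (height_under_le Q) ?_) hQ0
    exact Ideal.height_le_one_of_isPrincipal_of_mem_minimalPrimes (Ideal.span {bad}) Q hQ
  choose! π hπQ hπ0 hπdiv using hunif
  let S : Finset K := (hfin.toFinset.filter fun Q => Ideal.comap (algebraMap A R) Q ≠ ⊥).image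
    fun Q => algebraMap A K (π Q)
  have hS : (0 : K) ∉ S := by
    intro h0
    obtain ⟨Q, hQ, hπ⟩ := Finset.mem_image.1 h0
    rw [Finset.mem_filter, Set.Finite.mem_toFinset] at hQ
    exact hπ0 Q hQ.1 hQ.2 (IsFractionRing.injective A K (hπ.trans (map_zero _).symm))
  have hNA : IsUnit (N : A) := by
    rw [← IsLocalRing.notMem_maximalIdeal, ← IsLocalRing.residue_eq_zero_iff, map_natCast]
    exact hN
  have hNK : (N : K) ≠ 0 := by
    rw [← map_natCast (algebraMap A K)]
    exact (map_ne_zero_iff _ (IsFractionRing.injective A K)).2 hNA.ne_zero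
  obtain ⟨K', _, _, hfinK, hsepK, hrootK, hsplit⟩ := exists_extension K (K ⊗[RK] E₀) N hNK S hS
  letI : Algebra A K' := ((algebraMap K K').comp (algebraMap A K)).toAlgebra
  haveI : IsScalarTower A K K' := IsScalarTower.of_algebraMap_eq fun _ => rfl
  let A' := integralClosure A K'
  haveI : IsFractionRing A' K' := integralClosure.isFractionRing_of_finite_extension K K'
  haveI : IsIntegrallyClosed A' := integralClosure.isIntegrallyClosedOfFiniteExtension K
  haveI : Module.Finite A A' := IsIntegralClosure.finite A K K' A'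
  haveI : Algebra.IsIntegral A A' := Algebra.IsIntegral.of_finite A A'
  haveI : IsNoetherianRing A' := IsNoetherianRing.of_finite A A'
  haveI : IsLocalRing A' := Hensel.isLocalRing_of_integral_domain A A'
  haveI : HenselianLocalRing A' := Hensel.henselianLocalRing_finite A A'
  have hAK' : Function.Injective (algebraMap A K') :=
    (algebraMap K K').injective.comp (IsFractionRing.injective A K)
  have hAA' : Function.Injective (algebraMap A A') := fun a b h =>
    hAK' (congrArg (Subtype.val : A' → K') h)
  haveI : FaithfulSMul A A' := (faithfulSMul_iff_algebraMap_injective A A').2 hAA'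
  haveI : IsLocalHom (algebraMap A A') := RingHom.IsIntegral.isLocalHom (Algebra.isIntegral_def.1 inferInstance |> fun h => h) hAA'
  obtain ⟨hloc, algD, hlocD, hhens, hcoord⟩ := exists_henselization_baseChange A R hAR A'
  let D := R ⊗[A] A'
  have hAD : ∀ a, algebraMap A' D a = fromPoly A' D (C a) := fun a => by
    rw [hcoord, coordMap_C]
    rfl
  have hAD' : ∀ a, algebraMap R D (algebraMap A R a) = algebraMap A' D (algebraMap A A' a) := fun a => by
    show algebraMap A R a ⊗ₜ[A] (1 : A') = (1 : R) ⊗ₜ[A] algebraMap A A' a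
    rw [Algebra.algebraMap_eq_smul_one (A := A'), Algebra.algebraMap_eq_smul_one (A := R), TensorProduct.smul_tmul]
  haveI : Algebra.IsIntegral R D := Algebra.IsIntegral.of_finite R D
  have hinjD : Function.Injective (algebraMap R D) :=
    Algebra.TensorProduct.includeLeft_injective (S := A) hAA'
  have hgD : ∀ g' : D →+* PowerSeries A', (∀ q, g' (fromPoly A' D q) = (q : PowerSeries A')) → ∀ x,
      PowerSeries.constantCoeff (g' (algebraMap R D x)) = algebraMap A A' (PowerSeries.constantCoeff (g x)) := by
    intro g' hg' x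
    refine RingHom.congr_fun (f := ((PowerSeries.constantCoeff).comp g').comp (algebraMap R D))
      (g := (algebraMap A A').comp gA) (hom_ext A R _ _ (RingHom.ext fun q => ?_) fun q hq => ?_) x
    · show PowerSeries.constantCoeff (g' (fromPoly A R q ⊗ₜ[A] (1 : A'))) =
        algebraMap A A' (PowerSeries.constantCoeff (g (fromPoly A R q)))
      rw [← coordMap_map A R hAR A' q, ← hcoord, hg', hg, ← PowerSeries.coeff_zero_eq_constantCoeff_apply,
        ← PowerSeries.coeff_zero_eq_constantCoeff_apply, Polynomial.coeff_coe, Polynomial.coeff_coe, Polynomial.coeff_map]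
    · show PowerSeries.constantCoeff (g' (fromPoly A R q ⊗ₜ[A] (1 : A'))) ∈ maximalIdeal A'
      rw [← coordMap_map A R hAR A' q, ← hcoord, hg', ← PowerSeries.coeff_zero_eq_constantCoeff_apply,
        Polynomial.coeff_coe, Polynomial.coeff_map]
      exact map_nonunit (algebraMap A A') _ ((mem_origin_iff q).1 hq)
  have hroot : ∀ Q ∈ (Ideal.span {bad}).minimalPrimes, Ideal.comap (algebraMap A R) Q ≠ ⊥ →
      ∃ π ∈ Ideal.comap (algebraMap A R) Q, π ≠ 0 ∧ (∀ x ∈ Ideal.comap (algebraMap A R) Q,
        ∃ s ∉ Ideal.comap (algebraMap A R) Q, ∃ y, s * x = π * y) ∧ ∃ z : A', z ^ N = algebraMap A A' π := by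
    intro Q hQ hQ0
    refine ⟨π Q, hπQ Q hQ hQ0, hπ0 Q hQ hQ0, hπdiv Q hQ hQ0, ?_⟩
    obtain ⟨z, hz⟩ := hrootK (algebraMap A K (π Q))
      (Finset.mem_image.2 ⟨Q, Finset.mem_filter.2 ⟨hfin.mem_toFinset.2 hQ, hQ0⟩, rfl⟩)
    rw [← IsScalarTower.algebraMap_apply A K K'] at hz
    have hN0 : N ≠ 0 := by rintro rfl; exact hNK Nat.cast_zero
    have hzint : IsIntegral A z := IsIntegral.of_pow (Nat.pos_of_ne_zero hN0) (hz ▸ isIntegral_algebraMap)
    exact ⟨⟨z, hzint⟩, Subtype.ext hz⟩
  let MD := Algebra.algebraMapSubmonoid D (nonZeroDivisors A')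
  let T := Localization MD
  have hu : ∀ m : Algebra.algebraMapSubmonoid R (nonZeroDivisors A), IsUnit (algebraMap R T m) := by
    rintro ⟨_, a, ha, rfl⟩
    rw [IsScalarTower.algebraMap_apply R D T, hAD']
    exact IsLocalization.map_units T (⟨_, algebraMap A A' a,
      mem_nonZeroDivisors_of_ne_zero ((map_ne_zero_iff _ hAA').2 (nonZeroDivisors.ne_zero ha)), rfl⟩ : MD)
  let iT := IsLocalization.lift (S := RK) (P := T) (M := Algebra.algebraMapSubmonoid R (nonZeroDivisors A)) (g := algebraMap R T) hu
  letI : Algebra RK T := iT.toAlgebra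
  haveI : IsScalarTower R RK T := IsScalarTower.of_algebraMap_eq fun x => by
    show algebraMap R T x = iT (algebraMap R RK x)
    exact (IsLocalization.lift_eq (S := RK) (P := T) (g := algebraMap R T) (M := Algebra.algebraMapSubmonoid R (nonZeroDivisors A)) hu x).symm
  obtain ⟨d, hd⟩ := split_core A R g hff hgA hinj K RK E₀ evK hevK N hNA L (fun F _ _ φ hφ => hgal L F φ hφ) bad hbad0
    hbad A' hAA' K' hsplit hroot D hAD hinjD hAD' hgD T
    (fun x => by rw [← IsScalarTower.algebraMap_apply R RK T, IsScalarTower.algebraMap_apply R D T])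
  refine ⟨T, inferInstance, inferInstance, inferInstance, inferInstance, d, hd, fun Ω _ _ _ hΩ => ?_⟩
  letI : Algebra K Ω := (IsFractionRing.lift (K := K) hΩ).toAlgebra
  haveI : IsScalarTower A K Ω := IsScalarTower.of_algebraMap_eq fun x => (IsFractionRing.lift_algebraMap hΩ x).symm
  let σ : K' →ₐ[K] Ω := IsSepClosed.lift
  let τ : A' →ₐ[A] Ω := (σ.restrictScalars A).comp A'.val
  let F : D →ₐ[R] R ⊗[A] Ω := Algebra.TensorProduct.map (AlgHom.id R R) τ
  have hF : ∀ m : MD, IsUnit (F m) := by
    rintro ⟨_, a, ha, rfl⟩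
    show IsUnit (F ((1 : R) ⊗ₜ[A] a))
    rw [Algebra.TensorProduct.map_tmul, map_one]
    refine (IsUnit.mk0 (τ a) ?_).map (Algebra.TensorProduct.includeRight : Ω →ₐ[A] R ⊗[A] Ω)
    show σ (a : K') ≠ 0
    rw [_root_.map_ne_zero]
    exact fun h => nonZeroDivisors.ne_zero ha (Subtype.ext h)
  exact ⟨IsLocalization.liftAlgHom (M := MD) (S := T) (f := F) hF⟩

end Groth.Agent.HensLine
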