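import Groth.Agent.HensLine.Colimit
import Groth.Agent.HensLine.Split
import Groth.Agent.HensLine.Galois
import Groth.Agent.HensLine.Points
import Mathlib

/-!
# Torsors on the geometric fibre of the henselised line descend to a Noetherian stage
-/

set_option autoImplicit false
set_option linter.style.haveILetI false
set_option backward.isDefEq.respectTransparency false
set_option synthInstance.maxHeartbeats 400000
set_option maxHeartbeats 4000000

universe u

open IsLocalRing Polynomial
open scoped TensorProduct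

attribute [-instance] MvPowerSeries.instAlgebra MvPowerSeries.instModule

namespace Groth.Agent.HensLine

section Torsor

variable {B E : Type u} [CommRing B] [CommRing E] [Algebra B E] {G : Type u} [Group G] [Finite G]

/-- The map defining torsors. -/
noncomputable def torsorMap (act : G → (E →ₐ[B] E)) : E ⊗[B] E →ₐ[E] (G → E) :=
  Algebra.TensorProduct.lift (Algebra.ofId E (G → E)) (Pi.algHom B (fun _ : G => E) act) fun _ _ => mul_comm _ _

omit [Group G] [Finite G] in
theorem torsorMap_tmul (act : G → (E →ₐ[B] E)) (x y : E) (g : G) : torsorMap act (x ⊗ₜ y) g = x * act g y := by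
  rw [torsorMap, Algebra.TensorProduct.lift_tmul]
  rfl

/-- Points of a torsor form a torsor. -/
theorem existsUnique_of_torsor (act : G → (E →ₐ[B] E)) (h : Function.Bijective (torsorMap act))
    (k : Type u) [Field k] [Algebra B k] (σ τ : E →ₐ[B] k) : ∃! g, σ.comp (act g) = τ := by
  classical
  haveI := Fintype.ofFinite G
  let e := AlgEquiv.ofBijective (torsorMap act) h
  let P : E ⊗[B] E →ₐ[B] k := Algebra.TensorProduct.lift σ τ fun _ _ => mul_comm _ _
  let Q : (G → E) →ₐ[B] k := P.comp (e.symm.toAlgHom.restrictScalars B)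
  obtain ⟨g, hg⟩ : ∃ g, Q (Pi.single g 1) ≠ 0 := by
    by_contra hall
    push Not at hall
    have h1 := map_one Q
    rw [show (1 : G → E) = ∑ g, Pi.single g 1 from (Finset.univ_sum_single (1 : G → E)).symm, map_sum] at h1
    simp [hall] at h1
  have hconst : ∀ x : E, Q (fun _ => x) = σ x := fun x => by
    have h2 : e (x ⊗ₜ 1) = fun _ => x := funext fun g => by
      show torsorMap act (x ⊗ₜ 1) g = x
      rw [torsorMap_tmul, map_one, mul_one]
    show P (e.symm (fun _ => x)) = σ x
    rw [← h2, AlgEquiv.symm_apply_apply]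
    simp [P]
  refine ⟨g, AlgHom.ext fun y => ?_, fun g' hg' => ?_⟩
  · have h3 : Q (fun g => act g y) = τ y := by
      have h2 : e (1 ⊗ₜ y) = fun g => act g y := funext fun g => by
        show torsorMap act (1 ⊗ₜ y) g = act g y
        rw [torsorMap_tmul, one_mul]
      show P (e.symm (fun g => act g y)) = τ y
      rw [← h2, AlgEquiv.symm_apply_apply]
      simp [P]
    have h4 : (fun g => act g y) * Pi.single g 1 = (fun _ => act g y) * Pi.single g 1 := funext fun i => by
      by_cases hi : i = g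
      · subst hi; rfl
      · simp [hi]
    have h5 := congrArg Q h4
    rw [map_mul, map_mul, h3, hconst] at h5
    exact (mul_right_cancel₀ hg h5).symm
  · by_contra hne
    have hP : P = σ.comp ((Pi.evalAlgHom B (fun _ : G => E) g').comp ((torsorMap act).restrictScalars B)) :=
      Algebra.TensorProduct.ext (AlgHom.ext fun x => by simp [P, torsorMap_tmul])
        (AlgHom.ext fun y => by simp [P, torsorMap_tmul, ← hg'])
    refine hg ?_
    show P (e.symm (Pi.single g 1)) = 0
    rw [hP]
    show σ ((e (e.symm (Pi.single g 1))) g') = 0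
    rw [AlgEquiv.apply_symm_apply, Pi.single_eq_of_ne hne, map_zero]

end Torsor

variable (A : Type u) [CommRing A] [IsDomain A] [IsIntegrallyClosed A] [HenselianLocalRing A]
  (R : Type u) [CommRing R] [IsLocalRing R] [Algebra (Localization.AtPrime (origin A)) R]
  [IsLocalHom (algebraMap (Localization.AtPrime (origin A)) R)]
  [_root_.Hensel.IsHenselization (Localization.AtPrime (origin A)) R]
  [Algebra A R] (hAR : ∀ a, algebraMap A R a = fromPoly A R (C a))
  (K : Type u) [Field K] [IsAlgClosed K] [Algebra A K] [IsFractionRing A K]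
  {G : Type u} [Group G] [Finite G] (hN : (Nat.card G : ResidueField A) ≠ 0)

include hAR hN in
theorem split_aux (A₀ : Subalgebra ℤ (R ⊗[A] K)) (hA₀ : A₀.FG) (B₀ : Type u) [CommRing B₀] [Algebra A₀ B₀]
    [Algebra.Etale A₀ B₀] [Module.Finite (R ⊗[A] K) ((R ⊗[A] K) ⊗[A₀] B₀)]
    (act : G → ((R ⊗[A] K) ⊗[A₀] B₀ →ₐ[R ⊗[A] K] (R ⊗[A] K) ⊗[A₀] B₀))
    (act_one : act 1 = AlgHom.id _ _) (act_mul : ∀ g h, act (g * h) = (act h).comp (act g))
    (hΦ : Function.Bijective (torsorMap act)) :
    ∃ d : ℕ, Nonempty ((R ⊗[A] K) ⊗[A₀] B₀ ≃ₐ[R ⊗[A] K] (ULift.{u} (Fin d) → R ⊗[A] K)) := by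
  classical
  haveI := Fintype.ofFinite G
  obtain ⟨hRd, hC⟩ := isDomain_line A K R
  haveI := hRd
  have hinjA : Function.Injective (algebraMap A R) := fun a b h => hC (by simpa [hAR] using h)
  let RK := R ⊗[A] K
  haveI : IsLocalization (Algebra.algebraMapSubmonoid R (nonZeroDivisors A)) RK := IsLocalization.tensor K (nonZeroDivisors A)
  have hMR : Algebra.algebraMapSubmonoid R (nonZeroDivisors A) ≤ nonZeroDivisors R := by
    rintro _ ⟨a, ha, rfl⟩
    exact mem_nonZeroDivisors_of_ne_zero ((map_ne_zero_iff _ hinjA).2 (nonZeroDivisors.ne_zero ha))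
  have hRRK : Function.Injective (algebraMap R RK) := IsLocalization.injective RK hMR
  haveI : Nontrivial RK := hRRK.nontrivial
  let E := RK ⊗[A₀] B₀
  -- representations
  have hrep : ∀ z : E, ∃ F : Finset RK, ∀ (W : Set E), (∀ r ∈ F, ∀ b : B₀, r ⊗ₜ b ∈ W) → 0 ∈ W →
      (∀ x ∈ W, ∀ y ∈ W, x + y ∈ W) → z ∈ W := by
    intro z
    induction z using TensorProduct.induction_on with
    | zero => exact ⟨∅, fun W _ h0 _ => h0⟩
    | tmul r b => exact ⟨{r}, fun W h _ _ => h r (Finset.mem_singleton_self r) b⟩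
    | add x y hx hy =>
      obtain ⟨F₁, h₁⟩ := hx
      obtain ⟨F₂, h₂⟩ := hy
      exact ⟨F₁ ∪ F₂, fun W h h0 hadd => hadd _ (h₁ W (fun r hr => h r (Finset.mem_union_left _ hr)) h0 hadd) _
        (h₂ W (fun r hr => h r (Finset.mem_union_right _ hr)) h0 hadd)⟩
  choose repE hrepE using hrep
  have hrep2 : ∀ z : E ⊗[RK] E, ∃ F : Finset E, ∀ (W : Set (E ⊗[RK] E)), (∀ x ∈ F, ∀ y ∈ F, x ⊗ₜ y ∈ W) → 0 ∈ W →
      (∀ x ∈ W, ∀ y ∈ W, x + y ∈ W) → z ∈ W := by
    intro z
    induction z using TensorProduct.induction_on with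
    | zero => exact ⟨∅, fun W _ h0 _ => h0⟩
    | tmul x y => exact ⟨{x, y}, fun W h _ _ => h x (by simp) y (by simp)⟩
    | add x y hx hy =>
      obtain ⟨F₁, h₁⟩ := hx
      obtain ⟨F₂, h₂⟩ := hy
      exact ⟨F₁ ∪ F₂, fun W h h0 hadd =>
        hadd _ (h₁ W (fun r hr s hs => h r (Finset.mem_union_left _ hr) s (Finset.mem_union_left _ hs)) h0 hadd) _
          (h₂ W (fun r hr s hs => h r (Finset.mem_union_right _ hr) s (Finset.mem_union_right _ hs)) h0 hadd)⟩
  choose repEE hrepEE using hrep2
  obtain ⟨t₀, ht₀⟩ := hA₀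
  obtain ⟨t, ht⟩ := (inferInstance : Algebra.FiniteType A₀ B₀).out
  let p : B₀ → RK[X] := fun b => minpoly RK ((1 : RK) ⊗ₜ[A₀] b : E)
  let Φe := AlgEquiv.ofBijective (torsorMap act) hΦ
  let FE : Finset E := ((Finset.univ ×ˢ t).image fun gb : G × B₀ => act gb.1 ((1 : RK) ⊗ₜ[A₀] gb.2)) ∪
    Finset.univ.biUnion fun g => repEE (Φe.symm (Pi.single g 1))
  let FK : Finset RK := t₀ ∪ (t.biUnion fun b => (p b).support.image (p b).coeff) ∪ FE.biUnion repE
  -- the stage
  have hfrac : ∀ x : RK, ∃ (r : R) (a : A), a ≠ 0 ∧ x * algebraMap R RK (algebraMap A R a) = algebraMap R RK r := by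
    intro x
    obtain ⟨r, ⟨_, a, ha, rfl⟩, rfl⟩ := IsLocalization.exists_mk'_eq (Algebra.algebraMapSubmonoid R (nonZeroDivisors A)) x
    exact ⟨r, a, nonZeroDivisors.ne_zero ha, IsLocalization.mk'_spec RK r _⟩
  choose num den hden hfrac using hfrac
  obtain ⟨s₁, hs₁⟩ := exists_stage_range A K R (FK.image num)
  obtain ⟨Z⟩ := nonempty_rstage A K R (s₁ ∪ FK.image den)
  obtain ⟨Z₁⟩ := nonempty_rstage A K R s₁
  let H := Z.S.H
  let RS := Z.RS
  obtain ⟨hSd, hSn, hSnoe, hSh, gS, hffS, hgS⟩ := exists_toPowerSeries H RS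
  haveI := hSd
  letI : Algebra H RS := ((fromPoly H RS).comp C).toAlgebra
  have hHRS : ∀ a, algebraMap H RS a = fromPoly H RS (C a) := fun _ => rfl
  have hιC : ∀ a, Z.ι (algebraMap H RS a) = algebraMap A R (Z.S.j a) := fun a => by
    rw [hHRS, Z.hι, Polynomial.map_C, hAR]
  let KH := FractionRing H
  let RKS := RS ⊗[H] KH
  haveI : IsLocalization (Algebra.algebraMapSubmonoid RS (nonZeroDivisors H)) RKS :=
    IsLocalization.tensor KH (nonZeroDivisors H)
  have hu : ∀ m : Algebra.algebraMapSubmonoid RS (nonZeroDivisors H), IsUnit ((algebraMap R RK).comp Z.ι m) := by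
    rintro ⟨_, a, ha, rfl⟩
    show IsUnit (algebraMap R RK (Z.ι (algebraMap H RS a)))
    rw [hιC]
    exact IsLocalization.map_units RK (⟨_, Z.S.j a,
      mem_nonZeroDivisors_of_ne_zero ((map_ne_zero_iff _ Z.S.inj).2 (nonZeroDivisors.ne_zero ha)), rfl⟩ :
        Algebra.algebraMapSubmonoid R (nonZeroDivisors A))
  let κ : RKS →+* RK := IsLocalization.lift (M := Algebra.algebraMapSubmonoid RS (nonZeroDivisors H)) hu
  have hκ : ∀ x, κ (algebraMap RS RKS x) = algebraMap R RK (Z.ι x) := fun x => IsLocalization.lift_eq hu x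
  have hMS : Algebra.algebraMapSubmonoid RS (nonZeroDivisors H) ≤ nonZeroDivisors RS := by
    rintro _ ⟨a, ha, rfl⟩
    refine mem_nonZeroDivisors_of_ne_zero fun h0 => nonZeroDivisors.ne_zero ha (Z.S.inj (hinjA ?_))
    rw [← hιC, h0, map_zero, map_zero, map_zero]
  have hκinj : Function.Injective κ := (IsLocalization.lift_injective_iff hu).2 fun x y =>
    ⟨fun h => by rw [IsLocalization.injective RKS hMS h],
      fun h => by rw [Z.injective_ι (hRRK h)]⟩
  have hmemK : ∀ x ∈ FK, x ∈ κ.range := by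
    intro x hx
    obtain ⟨r, hr⟩ := Z₁.range_mono Finset.subset_union_left Z (hs₁ Z₁ _ (Finset.mem_image_of_mem num hx))
    obtain ⟨a, ha⟩ := Z.S.mem _ (subset_stageRing A K _ (Finset.mem_union_right s₁ (Finset.mem_image_of_mem den hx)))
    have ha0 : a ≠ 0 := fun h => hden x (by rw [← ha, h, map_zero])
    obtain ⟨w, hw⟩ := IsLocalization.map_units RKS (⟨_, a, mem_nonZeroDivisors_of_ne_zero ha0, rfl⟩ :
      Algebra.algebraMapSubmonoid RS (nonZeroDivisors H))
    refine ⟨algebraMap RS RKS r * ↑w⁻¹, ?_⟩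
    have h1 : κ (↑w : RKS) = algebraMap R RK (algebraMap A R (den x)) := by
      show κ (w : RKS) = _
      rw [hw, hκ, hιC, ha]
    refine ((w.isUnit.map κ).mul_left_inj).1 ?_
    rw [← map_mul, Units.inv_mul_cancel_right, hκ, hr, h1, hfrac]
  -- the base of the model
  have hA₀mem : ∀ x : A₀, (x : RK) ∈ κ.range := by
    have hle : A₀ ≤ subalgebraOfSubring κ.range := by
      rw [← ht₀, Algebra.adjoin_le_iff]
      exact fun x hx => hmemK x (Finset.mem_union_left _ (Finset.mem_union_left _ hx))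
    exact fun x => hle x.2
  choose iA hiA using hA₀mem
  let iA' : A₀ →+* RKS :=
    { toFun := iA
      map_one' := hκinj (by rw [hiA, map_one]; rfl)
      map_mul' := fun x y => hκinj (by rw [map_mul, hiA, hiA, hiA]; rfl)
      map_zero' := hκinj (by rw [hiA, map_zero]; rfl)
      map_add' := fun x y => hκinj (by rw [map_add, hiA, hiA, hiA]; rfl) }
  letI : Algebra A₀ RKS := iA'.toAlgebra
  letI : Algebra RKS RK := κ.toAlgebra
  haveI : IsScalarTower A₀ RKS RK := IsScalarTower.of_algebraMap_eq fun x => (hiA x).symm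
  let ES := RKS ⊗[A₀] B₀
  letI i1 : CommRing ES := inferInstance
  letI i2 : Algebra RKS ES := inferInstance
  haveI i3 : Algebra.Etale RKS ES := inferInstance
  let eb : RK ⊗[RKS] ES ≃ₐ[RK] E := Algebra.TensorProduct.cancelBaseChange A₀ RKS RK RK B₀
  let j : ES →ₐ[RKS] E := (eb.toAlgHom.restrictScalars RKS).comp Algebra.TensorProduct.includeRight
  have hj : ∀ r b, j (r ⊗ₜ b) = κ r ⊗ₜ[A₀] b := fun r b => by
    show eb (1 ⊗ₜ (r ⊗ₜ b)) = _
    rw [Algebra.TensorProduct.cancelBaseChange_tmul, Algebra.smul_def, mul_one]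
    rfl
  have hjinj : Function.Injective j :=
    eb.injective.comp (Algebra.TensorProduct.includeRight_injective hκinj)
  have hmemE : ∀ z ∈ FE, z ∈ j.range := fun z hz => by
    refine hrepE z (j.range : Set E) (fun r hr b => ?_) (zero_mem j.range) fun x hx y hy => add_mem hx hy
    obtain ⟨r', rfl⟩ := hmemK r (Finset.mem_union_right _ (Finset.mem_biUnion.2 ⟨z, hz, hr⟩))
    exact ⟨r' ⊗ₜ b, hj r' b⟩
  have hgen : ∀ z : ES, z ∈ Algebra.adjoin RKS ((fun b => (1 : RKS) ⊗ₜ[A₀] b) '' (t : Set B₀)) := by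
    intro z
    induction z using TensorProduct.induction_on with
    | zero => exact zero_mem _
    | tmul r b =>
      rw [show r ⊗ₜ[A₀] b = r • ((1 : RKS) ⊗ₜ[A₀] b) by rw [TensorProduct.smul_tmul', smul_eq_mul, mul_one]]
      refine Subalgebra.smul_mem _ ?_ r
      have hb : b ∈ Algebra.adjoin A₀ (t : Set B₀) := ht ▸ Algebra.mem_top
      induction hb using Algebra.adjoin_induction with
      | mem x hx => exact Algebra.subset_adjoin ⟨x, hx, rfl⟩
      | algebraMap a =>
        rw [Algebra.algebraMap_eq_smul_one, TensorProduct.tmul_smul, TensorProduct.smul_tmul',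
          Algebra.smul_def, mul_one]
        rw [show algebraMap A₀ RKS a ⊗ₜ[A₀] (1 : B₀) = algebraMap RKS ES (algebraMap A₀ RKS a) from
          (Algebra.TensorProduct.algebraMap_apply _).symm]
        exact Subalgebra.algebraMap_mem _ _
      | add x y _ _ hx hy => rw [TensorProduct.tmul_add]; exact add_mem hx hy
      | mul x y _ _ hx hy =>
        rw [show (1 : RKS) ⊗ₜ[A₀] (x * y) = (1 ⊗ₜ x) * (1 ⊗ₜ y) by rw [Algebra.TensorProduct.tmul_mul_tmul, one_mul]]
        exact mul_mem hx hy
    | add x y hx hy => exact add_mem hx hy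
  haveI : Algebra.IsIntegral RKS ES := by
    refine ⟨fun z => (?_ : Algebra.adjoin RKS _ ≤ integralClosure RKS ES) (hgen z)⟩
    rw [Algebra.adjoin_le_iff]
    rintro _ ⟨b, hb, rfl⟩
    have hl : p b ∈ Polynomial.lifts κ := by
      rw [Polynomial.lifts_iff_coeff_lifts]
      intro n
      by_cases hn : n ∈ (p b).support
      · exact hmemK _ (Finset.mem_union_left _ (Finset.mem_union_right _
          (Finset.mem_biUnion.2 ⟨b, hb, Finset.mem_image.2 ⟨n, hn, rfl⟩⟩)))
      · rw [Polynomial.notMem_support_iff.1 hn]; exact ⟨0, map_zero κ⟩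
    have hint : IsIntegral RK ((1 : RK) ⊗ₜ[A₀] b : E) := IsIntegral.of_finite RK _
    obtain ⟨q, hq, -, hqm⟩ := Polynomial.lifts_and_degree_eq_and_monic hl (minpoly.monic hint)
    refine ⟨q, hqm, hjinj ?_⟩
    rw [map_zero, ← Polynomial.aeval_def, ← Polynomial.aeval_algHom_apply, hj, map_one,
      ← Polynomial.aeval_map_algebraMap RK]
    show Polynomial.aeval ((1 : RK) ⊗ₜ[A₀] b : E) (q.map κ) = 0
    rw [hq]
    exact minpoly.aeval RK _
  haveI : Algebra.FiniteType RKS ES := inferInstance
  haveI : Module.Finite RKS ES := Algebra.IsIntegral.finite (R := RKS) (A := ES)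
  -- the action
  have hstable : ∀ g, ∀ x : ES, act g (j x) ∈ j.range := fun g x => by
    refine (?_ : Algebra.adjoin RKS _ ≤ j.range.comap (((act g).restrictScalars RKS).comp j)) (hgen x)
    rw [Algebra.adjoin_le_iff]
    rintro _ ⟨b, hb, rfl⟩
    show act g (j (1 ⊗ₜ b)) ∈ j.range
    rw [hj, map_one]
    exact hmemE _ (Finset.mem_union_left _ (Finset.mem_image.2 ⟨(g, b), Finset.mem_product.2 ⟨Finset.mem_univ g, hb⟩, rfl⟩))
  let actS : G → (ES →ₐ[RKS] ES) := fun g =>
    (AlgEquiv.ofInjective j hjinj).symm.toAlgHom.comp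
      ((((act g).restrictScalars RKS).comp j).codRestrict j.range (hstable g))
  have hactS : ∀ g x, j (actS g x) = act g (j x) := fun g x =>
    congrArg Subtype.val ((AlgEquiv.ofInjective j hjinj).apply_symm_apply _)
  have hactS1 : actS 1 = AlgHom.id RKS ES := AlgHom.ext fun x => hjinj (by rw [hactS, act_one]; rfl)
  have hactSmul : ∀ g h, actS (g * h) = (actS h).comp (actS g) := fun g h => AlgHom.ext fun x => hjinj (by
    rw [hactS, act_mul]
    show act h (act g (j x)) = j (actS h (actS g x))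
    rw [hactS, hactS])
  -- the torsor at the stage
  let m : ES ⊗[RKS] ES →ₗ[RKS] E ⊗[RK] E :=
    (((TensorProduct.AlgebraTensorModule.distribBaseChange RKS RK ES ES).trans
      (TensorProduct.congr eb.toLinearEquiv eb.toLinearEquiv)).toLinearMap.restrictScalars RKS).comp
      (TensorProduct.mk RKS RK (ES ⊗[RKS] ES) 1)
  have hm : ∀ x y, m (x ⊗ₜ y) = j x ⊗ₜ j y := fun x y => by simp [m, j]
  have hminj : Function.Injective m := by
    refine ((TensorProduct.AlgebraTensorModule.distribBaseChange RKS RK ES ES).trans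
      (TensorProduct.congr eb.toLinearEquiv eb.toLinearEquiv)).injective.comp ?_
    haveI : Algebra.Etale RKS (ES ⊗[RKS] ES) := Algebra.Etale.comp RKS ES (ES ⊗[RKS] ES)
    exact Algebra.TensorProduct.includeRight_injective (R := RKS) (A := RK) (B := ES ⊗[RKS] ES) hκinj
  have hcomm : ∀ z g, j (torsorMap actS z g) = torsorMap act (m z) g := by
    intro z g
    induction z using TensorProduct.induction_on with
    | zero => simp
    | tmul x y => rw [hm, torsorMap_tmul, torsorMap_tmul, map_mul, hactS]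
    | add x y hx hy => simp only [map_add, Pi.add_apply, hx, hy]
  have hΦS : Function.Bijective (torsorMap actS) := by
    refine ⟨fun x y hxy => hminj (hΦ.1 (funext fun g => ?_)), fun v => ?_⟩
    · rw [← hcomm, ← hcomm, hxy]
    have hsingle : ∀ g, ∃ z, torsorMap actS z = Pi.single g 1 := by
      intro g
      obtain ⟨z, hz⟩ : Φe.symm (Pi.single g 1) ∈ LinearMap.range m := by
        refine hrepEE _ (LinearMap.range m : Set (E ⊗[RK] E)) (fun x hx y hy => ?_) (zero_mem _) fun x hx y hy => add_mem hx hy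
        obtain ⟨x', rfl⟩ := hmemE x (Finset.mem_union_right _ (Finset.mem_biUnion.2 ⟨g, Finset.mem_univ g, hx⟩))
        obtain ⟨y', rfl⟩ := hmemE y (Finset.mem_union_right _ (Finset.mem_biUnion.2 ⟨g, Finset.mem_univ g, hy⟩))
        exact ⟨x' ⊗ₜ y', hm x' y'⟩
      refine ⟨z, funext fun g' => hjinj ?_⟩
      rw [hcomm, hz, show torsorMap act (Φe.symm (Pi.single g 1)) = Pi.single g 1 from Φe.apply_symm_apply _]
      rcases eq_or_ne g' g with rfl | hne
      · rw [Pi.single_eq_same, Pi.single_eq_same, map_one]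
      · rw [Pi.single_eq_of_ne hne, Pi.single_eq_of_ne hne, map_zero]
    choose z hz using hsingle
    refine ⟨∑ g, v g • z g, ?_⟩
    rw [map_sum]
    refine Eq.trans (Finset.sum_congr rfl fun g _ => ?_) (Finset.univ_sum_single v)
    rw [map_smul, hz]
    funext g'
    rcases eq_or_ne g' g with rfl | hne
    · simp
    · simp [hne]
  -- splitting at the stage
  have hNH : ((Nat.card G : ℕ) : ResidueField H) ≠ 0 := fun h0 => hN (by
    rw [← map_natCast (residue H), residue_eq_zero_iff] at h0
    rw [← map_natCast (residue A), residue_eq_zero_iff, ← map_natCast Z.S.j]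
    exact map_nonunit Z.S.j _ h0)
  have hgal : ∀ (L : Type u) [Field L] [Algebra RS L] [IsFractionRing RS L] [Algebra RKS L] [IsScalarTower RS RKS L]
      (F : Type u) [Field F] [Algebra L F] (φ : L ⊗[RKS] ES →ₐ[L] F), Function.Surjective φ →
        IsGalois L F ∧ Nat.card (F ≃ₐ[L] F) ∣ Nat.card G := by
    intro L _ _ _ _ _ F _ _ φ hφ
    haveI : FiniteDimensional L F := Module.Finite.of_surjective φ.toLinearMap hφ
    haveI : Algebra.FormallyUnramified L F := Algebra.FormallyUnramified.of_surjective φ hφ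
    haveI : Algebra.IsSeparable L F := Algebra.FormallyUnramified.isSeparable L F
    let act' : G → (L ⊗[RKS] ES →ₐ[L] L ⊗[RKS] ES) := fun g =>
      Algebra.TensorProduct.map (AlgHom.id L L) (actS g)
    refine galois_factor (Ω := AlgebraicClosure L) act' ?_ ?_ ?_ φ hφ
    · show Algebra.TensorProduct.map (AlgHom.id L L) (actS 1) = _
      rw [hactS1]
      exact Algebra.TensorProduct.map_id
    · intro g h
      show Algebra.TensorProduct.map (AlgHom.id L L) (actS (g * h)) =
        (Algebra.TensorProduct.map (AlgHom.id L L) (actS h)).comp (Algebra.TensorProduct.map (AlgHom.id L L) (actS g))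
      rw [hactSmul]
      exact Algebra.TensorProduct.ext (AlgHom.ext fun _ => rfl) (AlgHom.ext fun _ => rfl)
    · intro σ τ
      obtain ⟨g, hg, hgu⟩ := existsUnique_of_torsor actS hΦS (AlgebraicClosure L)
        ((σ.restrictScalars RKS).comp Algebra.TensorProduct.includeRight)
        ((τ.restrictScalars RKS).comp Algebra.TensorProduct.includeRight)
      refine ⟨g, ?_, fun g' hg' => hgu g' ?_⟩
      · refine Algebra.TensorProduct.ext (AlgHom.ext fun l => ?_) (AlgHom.ext fun x => ?_)
        · simp [act']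
          exact (σ.commutes l).trans (τ.commutes l).symm
        · exact AlgHom.congr_fun hg x
      · exact AlgHom.ext fun x => AlgHom.congr_fun hg' ((1 : L) ⊗ₜ x)
  obtain ⟨T, _, _, _, _, d, ⟨θ⟩, hhom⟩ := exists_split H RS hHRS KH RKS ES (Nat.card G) hNH hgal
  letI : Algebra H K := ((algebraMap A K).comp Z.S.j).toAlgebra
  obtain ⟨h⟩ := hhom K ((IsFractionRing.injective A K).comp Z.S.inj)
  letI : Algebra H RK := ((algebraMap R RK).comp (Z.ι.comp (algebraMap H RS))).toAlgebra
  let χ : RS ⊗[H] K →ₐ[H] RK := Algebra.TensorProduct.lift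
    ({ (algebraMap R RK).comp Z.ι with commutes' := fun _ => rfl } : RS →ₐ[H] RK)
    ({ (Algebra.TensorProduct.includeRight : K →ₐ[A] RK).toRingHom with
        commutes' := fun a => by
          show (1 : R) ⊗ₜ[A] algebraMap A K (Z.S.j a) = algebraMap R RK (Z.ι (algebraMap H RS a))
          rw [hιC]
          show _ = algebraMap A R (Z.S.j a) ⊗ₜ[A] (1 : K)
          rw [Algebra.algebraMap_eq_smul_one (A := K), Algebra.algebraMap_eq_smul_one (A := R),
            TensorProduct.smul_tmul] } : K →ₐ[H] RK)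
    fun _ _ => mul_comm _ _
  let u : T →+* RK := χ.toRingHom.comp h.toRingHom
  have huκ : u.comp (algebraMap RKS T) = κ := IsLocalization.ringHom_ext
    (Algebra.algebraMapSubmonoid RS (nonZeroDivisors H)) (RingHom.ext fun x => by
      show χ (h (algebraMap RKS T (algebraMap RS RKS x))) = κ (algebraMap RS RKS x)
      rw [← IsScalarTower.algebraMap_apply RS RKS T, h.commutes, hκ]
      show χ (x ⊗ₜ[H] (1 : K)) = _
      rw [Algebra.TensorProduct.lift_tmul, map_one, mul_one]
      rfl)
  letI : Algebra T RK := u.toAlgebra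
  haveI : IsScalarTower RKS T RK := IsScalarTower.of_algebraMap_eq' huκ.symm
  exact ⟨d, ⟨eb.symm.trans ((Algebra.TensorProduct.cancelBaseChange RKS T RK RK ES).symm.trans
    ((Algebra.TensorProduct.congr (AlgEquiv.refl : RK ≃ₐ[RK] RK) θ).trans
      (Algebra.TensorProduct.piScalarRight T RK RK (ULift.{u} (Fin d)))))⟩⟩

include hAR hN in
/-- Torsors of order prime to the residue characteristic over the geometric fibre split. -/
theorem split_of_torsor (E : Type u) [CommRing E] [Algebra (R ⊗[A] K) E] [Algebra.Etale (R ⊗[A] K) E]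
    [Module.Finite (R ⊗[A] K) E] (act : G → (E →ₐ[R ⊗[A] K] E)) (act_one : act 1 = AlgHom.id _ _)
    (act_mul : ∀ g h, act (g * h) = (act h).comp (act g)) (hΦ : Function.Bijective (torsorMap act)) :
    ∃ d : ℕ, Nonempty (E ≃ₐ[R ⊗[A] K] (ULift.{u} (Fin d) → R ⊗[A] K)) := by
  classical
  obtain ⟨A₀, B₀, _, _, hA₀, hB₀, ⟨e⟩⟩ := Algebra.Etale.exists_subalgebra_fg (R := ℤ) (A := R ⊗[A] K) (B := E)
  haveI := hB₀
  haveI : Module.Finite (R ⊗[A] K) ((R ⊗[A] K) ⊗[A₀] B₀) := Module.Finite.equiv e.toLinearEquiv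
  let act' := fun g => e.toAlgHom.comp ((act g).comp e.symm.toAlgHom)
  have hΦ' : Function.Bijective (torsorMap act') := by
    let c := Algebra.TensorProduct.congr e.symm e.symm
    have hc : ∀ z g, torsorMap act' z g = e (torsorMap act (c z) g) := by
      intro z g
      induction z using TensorProduct.induction_on with
      | zero => simp
      | tmul x y =>
        rw [show c (x ⊗ₜ y) = e.symm x ⊗ₜ e.symm y from rfl, torsorMap_tmul, torsorMap_tmul, map_mul,
          AlgEquiv.apply_symm_apply]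
        rfl
      | add x y hx hy => simp only [map_add, Pi.add_apply, hx, hy]
    refine ⟨fun x y hxy => c.injective (hΦ.1 (funext fun g => e.injective (by rw [← hc, ← hc, hxy]))), fun v => ?_⟩
    obtain ⟨z, hz⟩ := hΦ.2 fun g => e.symm (v g)
    exact ⟨c.symm z, funext fun g => by rw [hc, AlgEquiv.apply_symm_apply, hz, AlgEquiv.apply_symm_apply]⟩
  obtain ⟨d, ⟨f⟩⟩ := split_aux A R hAR K hN A₀ hA₀ B₀ act'
    (AlgHom.ext fun x => by show e (act 1 (e.symm x)) = x; rw [act_one]; exact e.apply_symm_apply x)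
    (fun g h => AlgHom.ext fun x => by
      show e (act (g * h) (e.symm x)) = e (act h (e.symm (e (act g (e.symm x)))))
      rw [act_mul, AlgEquiv.symm_apply_apply]; rfl) hΦ'
  exact ⟨d, ⟨e.trans f⟩⟩

end Groth.Agent.HensLine
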