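import Groth.Agent.HensLine.Descent
import Groth.Agent.HensLine.BaseChange
import Groth.Agent.FEtGal.Galois
import Groth.Agent.TauTriv.Model
import Groth.Agent.Hensel.Branches
import Mathlib

/-!
# Galois covers of the geometric fibre of the henselised line
-/

set_option autoImplicit false
set_option linter.style.haveILetI false
set_option backward.isDefEq.respectTransparency false
set_option synthInstance.maxHeartbeats 400000
set_option maxHeartbeats 2000000

universe u

open CategoryTheory CategoryTheory.Limits AlgebraicGeometry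
open scoped TensorProduct

attribute [-instance] MvPowerSeries.instAlgebra MvPowerSeries.instModule

namespace Groth.Agent.HensLine

open Groth.Agent.FEtGal in
theorem isConnected_of_connectedSpace {X : Scheme.{u}} (Y : FEt.Cat X) [ConnectedSpace Y.left] :
    PreGaloisCategory.IsConnected Y where
  notInitial h := (isEmpty_of_isInitial h).false (Classical.arbitrary Y.left)
  noTrivialComponent W i _ hW := by
    obtain ⟨hi, V, u, hu, hc⟩ := mono_complement i
    haveI := hi
    haveI := hu
    haveI : IsFinite i.left := (prop_left i).1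
    have hC : IsClopen (Set.range i.left) := ⟨i.left.isClosedMap.isClosed_range, i.left.isOpenEmbedding.isOpen_range⟩
    have hne : Nonempty W.left := by
      by_contra hW'
      exact hW (isInitialCover W (not_nonempty_iff.1 hW'))
    have hs := hC.eq_univ (Set.range_nonempty i.left)
    haveI : Surjective i.left := ⟨Set.range_eq_univ.1 hs⟩
    exact isIso_of_isIso_left i ((isIso_iff_isOpenImmersion_and_surjective i.left).2 ⟨inferInstance, inferInstance⟩)

/-- A connected Galois cover whose torsor algebra splits is trivial. -/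
theorem isIso_of_galois (B : Type u) [CommRing B] [IsDomain B] {X : Scheme.{u}}
    (z : Spec (CommRingCat.of B) ⟶ X) [IsIso z] (Y : FEt.Cat X) [ConnectedSpace Y.left]
    (hgal : ∀ (Ω' : Type u) [Field Ω'] [IsAlgClosed Ω'] (ξ : Spec (CommRingCat.of Ω') ⟶ X)
      (s s' : FEt.fiberObj ξ Y), ∃ σ : Aut Y, (FEt.fiber ξ).map σ.hom s = s')
    (hsplit : ∀ (E : Type u) [CommRing E] [Algebra B E] [Algebra.Etale B E] [Module.Finite B E] [Finite (Aut Y)]
      (act : Aut Y → (E →ₐ[B] E)), act 1 = AlgHom.id B E → (∀ g h, act (g * h) = (act h).comp (act g)) →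
      Function.Bijective (torsorMap act) → ∃ d : ℕ, Nonempty (E ≃ₐ[B] (ULift.{u} (Fin d) → B))) :
    IsIso Y.hom := by
  classical
  haveI : ConnectedSpace (Spec (CommRingCat.of B)) := inferInstanceAs (ConnectedSpace (PrimeSpectrum B))
  haveI : ConnectedSpace X := z.surjective.connectedSpace z.continuous
  let Ω₀ := AlgebraicClosure (FractionRing B)
  let ξ₀ : Spec (CommRingCat.of Ω₀) ⟶ X := Spec.map (CommRingCat.ofHom (algebraMap B Ω₀)) ≫ z
  haveI := FEtGal.galoisCategory ξ₀
  haveI := isConnected_of_connectedSpace Y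
  haveI : Finite (Aut Y) := inferInstance
  have hfree : ∀ (k : Type u) [Field k] [IsAlgClosed k] (ξ : Spec (CommRingCat.of k) ⟶ X) (s : FEt.fiberObj ξ Y)
      (g g' : Aut Y), (FEt.fiber ξ).map g.hom s = (FEt.fiber ξ).map g'.hom s → g = g' := by
    intro k _ _ ξ s g g' h
    haveI := FEtGal.fiberFunctor ξ
    exact Iso.ext (PreGaloisCategory.evaluation_injective_of_isConnected (FEtGal.fibre ξ) Y Y s h)
  haveI : IsFinite Y.hom := Y.prop.1
  haveI : Etale Y.hom := Y.prop.2
  obtain ⟨E, _, _, a, hetE, hfinE, sq⟩ := TauTriv.exists_model Y.hom B z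
  haveI := hetE
  haveI := hfinE
  let f₀ := Spec.map (CommRingCat.ofHom (algebraMap B E))
  have hw : ∀ g : Aut Y, (a ≫ g.hom.left) ≫ Y.hom = f₀ ≫ z := fun g => by
    rw [Category.assoc]
    exact (congrArg (a ≫ ·) (Over.w g.hom.hom)).trans sq.w
  let e : Aut Y → (Spec (CommRingCat.of E) ⟶ Spec (CommRingCat.of E)) := fun g =>
    sq.lift (a ≫ g.hom.left) f₀ (hw g)
  have he₁ : ∀ g, e g ≫ a = a ≫ g.hom.left := fun g => sq.lift_fst _ _ _
  have he₂ : ∀ g, e g ≫ f₀ = f₀ := fun g => sq.lift_snd _ _ _
  let ψ : Aut Y → (E →ₐ[B] E) := fun g =>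
    { (Spec.preimage (e g)).hom with
      commutes' := fun x => by
        have h : CommRingCat.ofHom (algebraMap B E) ≫ Spec.preimage (e g) =
            CommRingCat.ofHom (algebraMap B E) := Spec.map_injective (by
          rw [Spec.map_comp, Spec.map_preimage]; exact he₂ g)
        exact RingHom.congr_fun (congrArg CommRingCat.Hom.hom h) x }
  have hψ : ∀ g, Spec.map (CommRingCat.ofHom (ψ g).toRingHom) = e g := fun g => Spec.map_preimage (e g)
  have hψ1 : ψ 1 = AlgHom.id B E := by
    have h : Spec.map (CommRingCat.ofHom (ψ 1).toRingHom) =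
        Spec.map (CommRingCat.ofHom (AlgHom.id B E).toRingHom) := by
      rw [hψ]
      refine sq.hom_ext ?_ ?_
      · rw [he₁]
        show a ≫ 𝟙 _ = Spec.map (CommRingCat.ofHom (RingHom.id E)) ≫ a
        rw [show CommRingCat.ofHom (RingHom.id E) = 𝟙 _ from rfl, Spec.map_id, Category.comp_id, Category.id_comp]
      · rw [he₂]
        show f₀ = Spec.map (CommRingCat.ofHom (RingHom.id E)) ≫ f₀
        rw [show CommRingCat.ofHom (RingHom.id E) = 𝟙 _ from rfl, Spec.map_id, Category.id_comp]
    exact AlgHom.ext fun x => RingHom.congr_fun (congrArg CommRingCat.Hom.hom (Spec.map_injective h)) x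
  have hψmul : ∀ g h, ψ (g * h) = (ψ h).comp (ψ g) := fun g h => by
    have h' : Spec.map (CommRingCat.ofHom (ψ (g * h)).toRingHom) =
        Spec.map (CommRingCat.ofHom ((ψ h).comp (ψ g)).toRingHom) := by
      rw [show CommRingCat.ofHom ((ψ h).comp (ψ g)).toRingHom =
        CommRingCat.ofHom (ψ g).toRingHom ≫ CommRingCat.ofHom (ψ h).toRingHom from rfl, Spec.map_comp, hψ, hψ, hψ]
      refine sq.hom_ext ?_ ?_
      · rw [he₁, Category.assoc, he₁, ← Category.assoc (e h), he₁, Category.assoc]
        rfl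
      · rw [he₂, Category.assoc, he₂, he₂]
    exact AlgHom.ext fun x => RingHom.congr_fun (congrArg CommRingCat.Hom.hom (Spec.map_injective h')) x
  -- points of the model
  have hpts : ∀ (k : Type u) [Field k] [IsAlgClosed k] [Algebra B k] (σ τ : E →ₐ[B] k),
      ∃! g, σ.comp (ψ g) = τ := by
    intro k _ _ _ σ τ
    let k₀ := Spec.map (CommRingCat.ofHom (algebraMap B k))
    let pt : (E →ₐ[B] k) → (Spec (CommRingCat.of k) ⟶ Spec (CommRingCat.of E)) := fun σ =>
      Spec.map (CommRingCat.ofHom σ.toRingHom)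
    have hpt : ∀ σ, pt σ ≫ f₀ = k₀ := fun σ => by
      show Spec.map _ ≫ Spec.map _ = Spec.map _
      rw [← Spec.map_comp]
      exact congrArg Spec.map (CommRingCat.hom_ext σ.comp_algebraMap)
    let s : (E →ₐ[B] k) → FEt.fiberObj (k₀ ≫ z) Y := fun σ => ⟨pt σ ≫ a, by
      rw [Category.assoc, sq.w, ← Category.assoc, hpt]⟩
    have hs : ∀ σ g, s (σ.comp (ψ g)) = (FEt.fiber (k₀ ≫ z)).map g.hom (s σ) := fun σ g => by
      refine Subtype.ext ?_
      show pt (σ.comp (ψ g)) ≫ a = (pt σ ≫ a) ≫ g.hom.left
      rw [Category.assoc, ← he₁, ← hψ, ← Category.assoc]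
      refine congrArg (· ≫ a) ?_
      show Spec.map _ = Spec.map _ ≫ Spec.map _
      rw [← Spec.map_comp]
      rfl
    have hsinj : Function.Injective s := fun σ τ h => by
      have h1 : pt σ ≫ a = pt τ ≫ a := congrArg Subtype.val h
      have h2 : pt σ = pt τ := sq.hom_ext h1 (by rw [hpt, hpt])
      exact AlgHom.ext fun x => RingHom.congr_fun (congrArg CommRingCat.Hom.hom (Spec.map_injective h2)) x
    obtain ⟨g, hg⟩ := hgal k (k₀ ≫ z) (s σ) (s τ)
    refine ⟨g, hsinj ((hs σ g).trans hg), fun g' hg' => hfree k _ (s σ) g' g ?_⟩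
    rw [← hs, hg', hg]
  -- the torsor
  have hΦ : Function.Bijective (torsorMap ψ) := by
    haveI := Fintype.ofFinite (Aut Y)
    refine bijective_of_points E (E ⊗[B] E) (Aut Y → E) (torsorMap ψ) fun k _ _ _ => ?_
    letI : Algebra B k := ((algebraMap E k).comp (algebraMap B E)).toAlgebra
    haveI : IsScalarTower B E k := IsScalarTower.of_algebraMap_eq fun _ => rfl
    have hev : ∀ σ : (Aut Y → E) →ₐ[E] k, ∃ g, ∀ v, σ v = algebraMap E k (v g) := by
      intro σ
      obtain ⟨g, hg⟩ : ∃ g, σ (Pi.single g 1) ≠ 0 := by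
        by_contra hall
        push Not at hall
        have h1 := map_one σ
        rw [show (1 : Aut Y → E) = ∑ g, Pi.single g 1 from (Finset.univ_sum_single (1 : Aut Y → E)).symm, map_sum] at h1
        simp [hall] at h1
      refine ⟨g, fun v => mul_right_cancel₀ hg ?_⟩
      rw [← map_mul, show v * Pi.single g 1 = v g • (Pi.single g (1 : E) : Aut Y → E) from funext fun i => by
        by_cases hi : i = g
        · subst hi; simp
        · simp [hi], map_smul, Algebra.smul_def]
    have hcomp : ∀ (σ : (Aut Y → E) →ₐ[E] k) g, (∀ v, σ v = algebraMap E k (v g)) →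
        ((σ.comp (torsorMap ψ)).restrictScalars B).comp Algebra.TensorProduct.includeRight =
          (IsScalarTower.toAlgHom B E k).comp (ψ g) := fun σ g h => AlgHom.ext fun y => by
      show σ (torsorMap ψ ((1 : E) ⊗ₜ y)) = algebraMap E k (ψ g y)
      rw [h, torsorMap_tmul, one_mul]
    refine ⟨fun σ₁ σ₂ h12 => ?_, fun τ => ?_⟩
    · obtain ⟨g₁, h₁⟩ := hev σ₁
      obtain ⟨g₂, h₂⟩ := hev σ₂
      have h3 : g₁ = g₂ := (hpts k (IsScalarTower.toAlgHom B E k) _).unique (hcomp σ₁ g₁ h₁).symm
        ((hcomp σ₂ g₂ h₂).symm.trans (congrArg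
          (fun f : E ⊗[B] E →ₐ[E] k => (f.restrictScalars B).comp Algebra.TensorProduct.includeRight) h12).symm)
      exact AlgHom.ext fun v => by rw [h₁, h₂, h3]
    · obtain ⟨g, hg, -⟩ := hpts k (IsScalarTower.toAlgHom B E k)
        ((τ.restrictScalars B).comp Algebra.TensorProduct.includeRight)
      let σ : (Aut Y → E) →ₐ[E] k := (Algebra.ofId E k).comp (Pi.evalAlgHom E (fun _ : Aut Y => E) g)
      refine ⟨σ, Algebra.TensorProduct.ext (AlgHom.ext fun x => ?_) ?_⟩
      · exact ((σ.comp (torsorMap ψ)).commutes x).trans (τ.commutes x).symm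
      · exact (hcomp σ g fun v => rfl).trans hg
  obtain ⟨d, ⟨θ⟩⟩ := hsplit E ψ hψ1 hψmul hΦ
  haveI : IsIso a := sq.isIso_fst_of_isIso
  haveI hconn : ConnectedSpace (PrimeSpectrum E) :=
    (asIso a).hom.homeomorph.connectedSpace_iff.mpr ‹ConnectedSpace Y.left›
  have hidem : ∀ x : E, IsIdempotentElem x → x = 0 ∨ x = 1 := by
    intro x hx
    rcases isClopen_iff.1 (PrimeSpectrum.isClopen_iff.2 ⟨x, hx, rfl⟩) with h | h
    · exact .inl (PrimeSpectrum.basicOpen_injOn_isIdempotentElem hx IsIdempotentElem.zero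
        (TopologicalSpace.Opens.ext (h.trans (by simp))))
    · exact .inr (PrimeSpectrum.basicOpen_injOn_isIdempotentElem hx IsIdempotentElem.one
        (TopologicalSpace.Opens.ext (h.trans (by simp))))
  haveI : Nontrivial E := by
    obtain ⟨p⟩ := hconn.toNonempty
    exact nontrivial_of_ne (0 : E) 1 fun h => p.isPrime.ne_top ((Ideal.eq_top_iff_one _).2 (h ▸ zero_mem _))
  have hsub : Subsingleton (ULift.{u} (Fin d)) := ⟨fun i j => by
    by_contra hij
    rcases hidem (θ.symm (Pi.single i 1)) (by
      show θ.symm _ * θ.symm _ = θ.symm _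
      rw [← map_mul]
      exact congrArg θ.symm (funext fun l => by by_cases hl : l = i <;> simp [hl])) with h | h
    · have := congrArg θ h
      rw [AlgEquiv.apply_symm_apply, map_zero] at this
      exact one_ne_zero (α := B) (by simpa using congrFun this i)
    · have := congrArg θ h
      rw [AlgEquiv.apply_symm_apply, map_one] at this
      exact one_ne_zero (α := B) (by simpa [Ne.symm hij] using (congrFun this j).symm)⟩
  haveI : Nonempty (ULift.{u} (Fin d)) := by
    by_contra hne
    rw [not_nonempty_iff] at hne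
    exact zero_ne_one (α := E) (θ.injective (Subsingleton.elim _ _))
  have hbij : Function.Bijective (algebraMap B E) := by
    obtain ⟨i⟩ := ‹Nonempty (ULift.{u} (Fin d))›
    refine ⟨fun x y h => ?_, fun w => ⟨θ w i, θ.injective (funext fun j => ?_)⟩⟩
    · simpa using congrFun (congrArg θ h) i
    · rw [AlgEquiv.commutes, Subsingleton.elim j i]
      simp
  haveI : IsIso f₀ := by
    haveI : IsIso (CommRingCat.ofHom (algebraMap B E)) := (ConcreteCategory.isIso_iff_bijective _).2 hbij
    infer_instance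
  haveI : IsIso (a ≫ Y.hom) := by rw [sq.w]; infer_instance
  exact IsIso.of_isIso_comp_left a Y.hom

end Groth.Agent.HensLine
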