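import Groth.Agent.HensLine.GeomFibre
import Mathlib

/-!
# Galois covers of the geometric fibre over an arbitrary point of the base
-/

set_option autoImplicit false
set_option linter.style.haveILetI false
set_option backward.isDefEq.respectTransparency false
set_option synthInstance.maxHeartbeats 400000
set_option maxHeartbeats 2000000

universe u

open CategoryTheory CategoryTheory.Limits AlgebraicGeometry
open scoped TensorProduct

attribute [-instance] MvPowerSeries.instAlgebra MvPowerSeries.instModule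

namespace Groth.Agent.HensLine

open IsLocalRing

/-- The normalisation of the closure of a point in a geometric point. -/
theorem integralClosure_props (A : Type u) [CommRing A] (Ω : Type u) [Field Ω] [Algebra A Ω]
    (halg : ∀ w : Ω, ∃ m : A, algebraMap A Ω m ≠ 0 ∧ IsIntegral A (m • w)) :
    IsIntegrallyClosed (integralClosure A Ω) ∧ IsFractionRing (integralClosure A Ω) Ω := by
  let C := integralClosure A Ω
  haveI hfr : IsFractionRing C Ω :=
    { map_units := fun y => IsUnit.mk0 _ fun h => nonZeroDivisors.ne_zero y.2 (Subtype.ext h)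
      surj := fun w => by
        obtain ⟨m, hm, hint⟩ := halg w
        refine ⟨⟨⟨m • w, hint⟩, ⟨algebraMap A C m, mem_nonZeroDivisors_of_ne_zero fun h => hm ?_⟩⟩, ?_⟩
        · exact congrArg Subtype.val h
        · show w * algebraMap A Ω m = m • w
          rw [Algebra.smul_def, mul_comm]
      exists_of_eq := fun {x y} h => ⟨1, by rw [Subtype.ext h]⟩ }
  refine ⟨(isIntegrallyClosed_iff Ω).2 fun {x} hx => ?_, hfr⟩
  exact ⟨⟨x, isIntegral_trans (R := A) x hx⟩, rfl⟩

/-- Galois covers of the geometric fibre of order prime to the residue characteristic are trivial. -/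
theorem isIso_of_galois_geomFibre (A : Type u) [CommRing A] [HenselianLocalRing A]
    (R : Type u) [CommRing R] [IsLocalRing R] [Algebra (Localization.AtPrime (origin A)) R]
    [IsLocalHom (algebraMap (Localization.AtPrime (origin A)) R)]
    [_root_.Hensel.IsHenselization (Localization.AtPrime (origin A)) R]
    [Algebra A R] (hAR : ∀ a, algebraMap A R a = fromPoly A R (Polynomial.C a))
    (Ω : Type u) [Field Ω] [IsAlgClosed Ω] [Algebra A Ω]
    (halg : ∀ w : Ω, ∃ m : A, algebraMap A Ω m ≠ 0 ∧ IsIntegral A (m • w))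
    {X : Scheme.{u}} (z : Spec (CommRingCat.of (R ⊗[A] Ω)) ⟶ X) [IsIso z]
    (Y : FEt.Cat X) [ConnectedSpace Y.left]
    (hgal : ∀ (Ω' : Type u) [Field Ω'] [IsAlgClosed Ω'] (ξ : Spec (CommRingCat.of Ω') ⟶ X)
      (s s' : FEt.fiberObj ξ Y), ∃ σ : Aut Y, (FEt.fiber ξ).map σ.hom s = s')
    (hord : ∀ q : ℕ, q.Prime → q ∣ Nat.card (Aut Y) → (q : ResidueField A) ≠ 0) : IsIso Y.hom := by
  classical
  let A' := integralClosure A Ω
  obtain ⟨hic, hfr⟩ := integralClosure_props A Ω halg
  haveI := hic
  haveI := hfr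
  haveI : IsLocalRing A' := Hensel.isLocalRing_of_integral_domain A A'
  haveI : HenselianLocalRing A' := Hensel.henselianLocalRing_finite A A'
  haveI : IsLocalHom (algebraMap A A') := ⟨fun a ha => by_contra fun hna => by
    haveI : ((maximalIdeal A').comap (algebraMap A A')).IsMaximal :=
      Ideal.isMaximal_comap_of_isIntegral_of_isMaximal (R := A) (maximalIdeal A')
    have h1 : a ∈ (maximalIdeal A').comap (algebraMap A A') :=
      (IsLocalRing.eq_maximalIdeal (I := (maximalIdeal A').comap (algebraMap A A')) inferInstance).ge hna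
    exact (mem_maximalIdeal _).1 h1 ha⟩
  obtain ⟨i₁, i₂, i₃, i₄, hfp⟩ := exists_henselization_baseChange A R hAR A'
  haveI := i₁
  letI := i₂
  haveI := i₃
  haveI := i₄
  let incR : A' →+* R ⊗[A] A' := (Algebra.TensorProduct.includeRight : A' →ₐ[A] R ⊗[A] A').toRingHom
  letI iA' : Algebra A' (R ⊗[A] A') := incR.toAlgebra
  have hAR' : ∀ a, algebraMap A' (R ⊗[A] A') a = fromPoly A' (R ⊗[A] A') (Polynomial.C a) := fun a => by
    rw [hfp, coordMap_C]; rfl
  let e₀ : (R ⊗[A] A') ≃ₐ[A'] A' ⊗[A] R :=
    { Algebra.TensorProduct.comm A R A' with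
      commutes' := fun a => by
        show Algebra.TensorProduct.comm A R A' ((1 : R) ⊗ₜ[A] a) = _
        simp [Algebra.TensorProduct.algebraMap_apply] }
  let e₁ : (R ⊗[A] A') ⊗[A'] Ω ≃+* R ⊗[A] Ω :=
    ((Algebra.TensorProduct.comm A' (R ⊗[A] A') Ω).toRingEquiv.trans
      (Algebra.TensorProduct.congr (AlgEquiv.refl : Ω ≃ₐ[A'] Ω) e₀).toRingEquiv).trans
      ((Algebra.TensorProduct.cancelBaseChange A A' A' Ω R).toRingEquiv.trans
        (Algebra.TensorProduct.comm A Ω R).toRingEquiv)
  let B := (R ⊗[A] A') ⊗[A'] Ω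
  obtain ⟨hdom, hinj⟩ := isDomain_line A' Ω (R ⊗[A] A')
  haveI := hdom
  haveI : IsLocalization (Algebra.algebraMapSubmonoid (R ⊗[A] A') (nonZeroDivisors A')) B :=
    IsLocalization.tensor Ω (nonZeroDivisors A')
  haveI : IsDomain B := IsLocalization.isDomain_of_le_nonZeroDivisors B
    (M := Algebra.algebraMapSubmonoid (R ⊗[A] A') (nonZeroDivisors A')) (by
      rintro _ ⟨a, ha, rfl⟩
      refine mem_nonZeroDivisors_of_ne_zero fun h => nonZeroDivisors.ne_zero ha (hinj ?_)
      simpa [hAR'] using h)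
  let z' : Spec (CommRingCat.of B) ⟶ X := (Scheme.Spec.mapIso e₁.toCommRingCatIso.op).inv ≫ z
  haveI : IsIso z' := by infer_instance
  refine isIso_of_galois B z' Y hgal fun E _ _ _ _ _ act h1 hmul hΦ =>
    split_of_torsor (G := Aut Y) A' (R ⊗[A] A') hAR' Ω ?_ E act h1 hmul hΦ
  intro h0
  obtain ⟨p, hp⟩ := CharP.exists (ResidueField A')
  rcases CharP.char_is_prime_or_zero (ResidueField A') p with hpp | hp0
  · refine hord p hpp ((CharP.cast_eq_zero_iff _ p _).1 h0) ((ResidueField.map (algebraMap A A')).injective ?_)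
    rw [map_natCast, map_zero, CharP.cast_eq_zero]
  · subst hp0
    haveI := CharP.charP_to_charZero (ResidueField A')
    exact Nat.card_ne_zero.2 ⟨inferInstance, inferInstance⟩ (Nat.cast_eq_zero.1 h0)

end Groth.Agent.HensLine
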