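import Groth.Agent.HensLine.Util
import Groth.Agent.TameAbh.GaloisTame
import Groth.Agent.AbsAbh.Divisible
import Groth.Agent.AbsAbh.DvrEtale
import Groth.Agent.Purity.Main
import Groth.Agent.Purity.Normal
import Groth.Agent.Purity.Global
import Mathlib

/-!
# Good primes after Kummer base change, and at regular primes of height two
-/

set_option autoImplicit false
set_option linter.style.haveILetI false
set_option backward.isDefEq.respectTransparency false
set_option synthInstance.maxHeartbeats 400000
set_option maxHeartbeats 1000000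

universe u

open IsLocalRing
open scoped TensorProduct

attribute [-instance] MvPowerSeries.instAlgebra MvPowerSeries.instModule

namespace Groth.Agent.HensLine

variable {R R' : Type u} [CommRing R] [IsDomain R] [IsIntegrallyClosed R]
  [CommRing R'] [IsDomain R'] [IsIntegrallyClosed R'] [Algebra R R']
  (L : Type u) [Field L] [Algebra R L] [IsFractionRing R L]
  (L' : Type u) [Field L'] [Algebra R' L'] [IsFractionRing R' L'] [Algebra L L'] [Algebra R L']
  [IsScalarTower R R' L'] [IsScalarTower R L L']
  (E : Type u) [CommRing E] [Algebra L E] [Algebra R E] [IsScalarTower R L E] [Algebra.Etale L E]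
  (E' : Type u) [CommRing E'] [Algebra L' E'] [Algebra R' E'] [IsScalarTower R' L' E']
  (ee : (L' ⊗[L] E) ≃ₐ[L'] E')

include L L' ee in
/-- Goodness is stable under base change of normal domains. -/
theorem good_baseChange (Q' : Ideal R') [Q'.IsPrime] (Q : Ideal R) [Q.IsPrime]
    (hQ : Q = Q'.comap (algebraMap R R')) (h : TauTriv.Good E Q) : TauTriv.Good E' Q' := by
  classical
  haveI : Module.Finite L E := Algebra.FormallyUnramified.finite_of_free L E
  obtain ⟨het, hfin⟩ := h
  let T := Localization.AtPrime Q
  let T' := Localization.AtPrime Q'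
  let C := integralClosure R E
  letI : Algebra T T' := (Localization.localRingHom Q Q' (algebraMap R R') hQ).toAlgebra
  haveI : IsScalarTower R T T' := IsScalarTower.of_algebraMap_eq fun x => by
    rw [RingHom.algebraMap_toAlgebra, Localization.localRingHom_to_map]
    exact IsScalarTower.algebraMap_apply R R' T' x
  let g : T' →+* L' := IsLocalization.lift (M := Q'.primeCompl) (g := algebraMap R' L') fun y =>
    IsUnit.mk0 _ ((map_ne_zero_iff _ (IsFractionRing.injective R' L')).2 fun h0 => y.2 (h0 ▸ Q'.zero_mem))
  letI : Algebra T' L' := g.toAlgebra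
  haveI : IsScalarTower R' T' L' := IsScalarTower.of_algebraMap_eq fun x => (IsLocalization.lift_eq _ x).symm
  letI : Algebra T L' := ((algebraMap T' L').comp (algebraMap T T')).toAlgebra
  haveI : IsScalarTower T T' L' := IsScalarTower.of_algebraMap_eq fun _ => rfl
  haveI : IsScalarTower R T L' := IsScalarTower.of_algebraMap_eq fun x => by
    show _ = algebraMap T' L' (algebraMap T T' (algebraMap R T x))
    rw [← IsScalarTower.algebraMap_apply R T T', IsScalarTower.algebraMap_apply R R' T',
      ← IsScalarTower.algebraMap_apply R' T' L', ← IsScalarTower.algebraMap_apply R R' L']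
  let θ : L ⊗[R] C ≃ₐ[L] E := AlgEquiv.ofBijective _ (TauTriv.bijective_evT L E)
  letI i1 : Semiring (T' ⊗[T] (T ⊗[R] C)) := inferInstance
  letI i2 : Algebra T' (T' ⊗[T] (T ⊗[R] C)) := inferInstance
  let e₁ : L' ⊗[T'] (T' ⊗[T] (T ⊗[R] C)) ≃ₐ[L'] E' :=
    (Algebra.TensorProduct.cancelBaseChange T T' L' L' (T ⊗[R] C)).trans
      ((Algebra.TensorProduct.cancelBaseChange R T L' L' C).trans
        ((Algebra.TensorProduct.cancelBaseChange R L L' L' C).symm.trans
          ((Algebra.TensorProduct.congr AlgEquiv.refl θ).trans ee)))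
  exact TauTriv.good_of_model L' E' Q' (T' ⊗[T] (T ⊗[R] C)) e₁

include L L' ee in
/-- Abhyankar's lemma at a prime of height one, after extracting a root of a uniformizer. -/
theorem good_abhyankar [IsNoetherianRing R] [IsNoetherianRing R'] (Q' : Ideal R') [Q'.IsPrime]
    (Q : Ideal R) [Q.IsPrime] (hQ : Q = Q'.comap (algebraMap R R')) (hQ1 : Q.height ≤ 1) (hQ1' : Q'.height ≤ 1)
    (π : R) (hπ0 : π ≠ 0) (hπQ : π ∈ Q)
    (hπ : maximalIdeal (Localization.AtPrime Q) = Ideal.span {algebraMap R (Localization.AtPrime Q) π})
    (hinj : Function.Injective (algebraMap R R'))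
    (N : ℕ) (hN : (N : ResidueField (Localization.AtPrime Q)) ≠ 0) (z : R') (hz : z ^ N = algebraMap R R' π)
    (hgal : ∀ (F : Type u) [Field F] [Algebra L F] (φ : E →ₐ[L] F), Function.Surjective φ →
      IsGalois L F ∧ Nat.card (F ≃ₐ[L] F) ∣ N) : TauTriv.Good E' Q' := by
  classical
  haveI : Module.Finite L E := Algebra.FormallyUnramified.finite_of_free L E
  let V := Localization.AtPrime Q
  let S := Localization.AtPrime Q'
  haveI : IsDomain V := IsLocalization.isDomain_localization Q.primeCompl_le_nonZeroDivisors
  haveI : IsDomain S := IsLocalization.isDomain_localization Q'.primeCompl_le_nonZeroDivisors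
  haveI := isPrincipalIdealRing_atPrime Q hQ1
  haveI := isPrincipalIdealRing_atPrime Q' hQ1'
  have hVinj : Function.Injective (algebraMap R V) :=
    IsLocalization.injective V Q.primeCompl_le_nonZeroDivisors
  haveI : IsDiscreteValuationRing V := { not_a_field' := fun h => hπ0 (hVinj (by
    rw [hπ, Ideal.span_singleton_eq_bot] at h; rw [h, map_zero])) }
  have hSinj : Function.Injective (algebraMap R' S) :=
    IsLocalization.injective S Q'.primeCompl_le_nonZeroDivisors
  have hπS : algebraMap R R' π ∈ Q' := by rw [← Ideal.mem_comap, ← hQ]; exact hπQ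
  haveI : IsDiscreteValuationRing S := { not_a_field' := fun h => hπ0 (hinj (hSinj (by
    have h1 : algebraMap R' S (algebraMap R R' π) ∈ maximalIdeal S := by
      rw [← Localization.AtPrime.map_eq_maximalIdeal]; exact Ideal.mem_map_of_mem _ hπS
    rw [h, Ideal.mem_bot] at h1
    rw [h1, map_zero, map_zero]))) }
  letI : Algebra V S := (Localization.localRingHom Q Q' (algebraMap R R') hQ).toAlgebra
  haveI : IsLocalHom (algebraMap V S) := Localization.isLocalHom_localRingHom Q Q' _ hQ
  have hVS : ∀ x, algebraMap V S (algebraMap R V x) = algebraMap R' S (algebraMap R R' x) := fun x =>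
    Localization.localRingHom_to_map _ _ _ hQ x
  have hVSinj : Function.Injective (algebraMap V S) := by
    refine (IsLocalization.lift_injective_iff _).2 fun x y => ?_
    exact ⟨fun h => by rw [hVinj h], fun h => by rw [hinj (hSinj h)]⟩
  let gV : V →+* L := IsLocalization.lift (M := Q.primeCompl) (g := algebraMap R L) fun y =>
    IsUnit.mk0 _ ((map_ne_zero_iff _ (IsFractionRing.injective R L)).2 fun h0 => y.2 (h0 ▸ Q.zero_mem))
  letI : Algebra V L := gV.toAlgebra
  haveI : IsScalarTower R V L := IsScalarTower.of_algebraMap_eq fun x => (IsLocalization.lift_eq _ x).symm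
  haveI : IsFractionRing V L := IsFractionRing.isFractionRing_of_isDomain_of_isLocalization Q.primeCompl V L
  let gS : S →+* L' := IsLocalization.lift (M := Q'.primeCompl) (g := algebraMap R' L') fun y =>
    IsUnit.mk0 _ ((map_ne_zero_iff _ (IsFractionRing.injective R' L')).2 fun h0 => y.2 (h0 ▸ Q'.zero_mem))
  letI : Algebra S L' := gS.toAlgebra
  haveI : IsScalarTower R' S L' := IsScalarTower.of_algebraMap_eq fun x => (IsLocalization.lift_eq _ x).symm
  haveI : IsFractionRing S L' := IsFractionRing.isFractionRing_of_isDomain_of_isLocalization Q'.primeCompl S L'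
  have hsq : ∀ v : V, algebraMap S L' (algebraMap V S v) = algebraMap L L' (algebraMap V L v) :=
    RingHom.congr_fun (f := (algebraMap S L').comp (algebraMap V S)) (g := (algebraMap L L').comp (algebraMap V L))
      (IsLocalization.ringHom_ext Q.primeCompl (RingHom.ext fun x => by
        simp only [RingHom.comp_apply]
        rw [hVS, ← IsScalarTower.algebraMap_apply R' S L', ← IsScalarTower.algebraMap_apply R R' L',
          ← IsScalarTower.algebraMap_apply R V L, ← IsScalarTower.algebraMap_apply R L L']))
  letI : Algebra S E' := ((algebraMap L' E').comp (algebraMap S L')).toAlgebra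
  haveI : IsScalarTower S L' E' := IsScalarTower.of_algebraMap_eq fun _ => rfl
  haveI : Algebra.Etale L' E' := Algebra.Etale.of_equiv ee
  have hunr : AbsAbh.UnramFactors S L' E' := by
    intro M _ _ _ _ φ hφ
    letI : Algebra L M := ((algebraMap L' M).comp (algebraMap L L')).toAlgebra
    haveI : IsScalarTower L L' M := IsScalarTower.of_algebraMap_eq fun _ => rfl
    let φE : E →ₐ[L] M :=
      ((φ.comp ee.toAlgHom).restrictScalars L).comp Algebra.TensorProduct.includeRight
    haveI : FiniteDimensional L φE.range := FiniteDimensional.of_surjective φE.rangeRestrict.toLinearMap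
      φE.rangeRestrict_surjective
    let F : IntermediateField L M := φE.range.toIntermediateField'
      (isField_of_isIntegral_of_isField' (R := L) (Field.toIsField L))
    let φF : E →ₐ[L] F := φE.rangeRestrict
    obtain ⟨hG, hcard⟩ := hgal F φF φE.rangeRestrict_surjective
    haveI := hG
    haveI : FiniteDimensional L F := ‹FiniteDimensional L φE.range›
    letI : Algebra V F := ((algebraMap L F).comp (algebraMap V L)).toAlgebra
    haveI : IsScalarTower V L F := IsScalarTower.of_algebraMap_eq fun _ => rfl
    have hcn : (Nat.card (F ≃ₐ[L] F) : ResidueField V) ≠ 0 := fun h0 => hN (by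
      obtain ⟨c, hc⟩ := hcard
      rw [hc, Nat.cast_mul, h0, zero_mul])
    have htame : EtRam.IsTamelyRamified V (algebraMap V F) := TameAbh.isTamelyRamified_of_galois hcn
    obtain ⟨ϖ, hϖ⟩ := IsDiscreteValuationRing.exists_irreducible S
    have hz0 : algebraMap R' S z ≠ 0 := fun h0 => hπ0 (hinj (by
      rw [map_zero, ← hz, hSinj (h0.trans (map_zero _).symm), zero_pow]
      rintro rfl
      exact hN Nat.cast_zero))
    obtain ⟨d, v, hv⟩ := IsDiscreteValuationRing.eq_unit_mul_pow_irreducible hz0 hϖ
    refine AbsAbh.unram_of_divisible (A₀ := V) (K₀ := L) (L := F) (S := S) (K := L') (M := M) hVSinj F.val.toRingHom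
      (RingHom.ext fun x => ?_) ?_ htame N hN (fun W hW => ?_) (algebraMap R V π)
      ((IsDiscreteValuationRing.irreducible_iff_uniformizer _).2 hπ) ϖ hϖ (v ^ N) d ?_
    · show ((algebraMap L F (algebraMap V L x) : F) : M) = algebraMap L' M (algebraMap S L' (algebraMap V S x))
      rw [hsq]
      rfl
    · rw [eq_top_iff]
      rintro m -
      obtain ⟨e', rfl⟩ := hφ m
      obtain ⟨t, rfl⟩ := ee.surjective e'
      induction t using TensorProduct.induction_on with
      | zero => rw [map_zero, map_zero]; exact zero_mem _
      | tmul l x =>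
        rw [show l ⊗ₜ[L] x = l • ((1 : L') ⊗ₜ[L] x) by rw [TensorProduct.smul_tmul', smul_eq_mul, mul_one],
          map_smul, map_smul, Algebra.smul_def]
        exact mul_mem (Subfield.subset_closure (Or.inr ⟨l, rfl⟩)) (Subfield.subset_closure (Or.inl ⟨φF x, rfl⟩))
      | add x y hx hy => rw [map_add, map_add]; exact add_mem hx hy
    · letI : Algebra V W := (RingHom.codRestrict (algebraMap V F) W hW.1).toAlgebra
      haveI : IsLocalHom (algebraMap V W) := EtRamTower.isLocalHom_codRestrict _ _ hW
      haveI := TameAbh.isDVR_of_dominates (A := V) (K := L) W hW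
      exact (TameAbh.galois_efg (A := V) (K := L) W fun a => rfl).1.trans hcard
    · rw [hVS, ← hz, map_pow, hv, mul_pow, ← pow_mul, mul_comm d N, Units.val_pow_eq_pow_val]
  obtain ⟨het, hfin⟩ := AbsAbh.etale_integralClosure S L' E' hunr
  haveI : Module.Finite L' E' := Algebra.FormallyUnramified.finite_of_free L' E'
  haveI := het
  haveI := hfin
  exact TauTriv.good_of_model L' E' Q' (integralClosure S E')
    (AlgEquiv.ofBijective _ (TauTriv.bijective_evT (R := S) L' E'))

section Two

variable (T : Type u) [CommRing T] [IsDomain T] [IsIntegrallyClosed T] [IsNoetherianRing T]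
  (K : Type u) [Field K] [Algebra T K] [IsFractionRing T K]
  (D : Type u) [CommRing D] [Algebra K D] [Algebra T D] [IsScalarTower T K D] [Algebra.Etale K D]

include K in
/-- The integral closure has depth two. -/
theorem twoWith_integralClosure (a b : T) (ha : a ≠ 0) (hab : ∀ p : Ideal T, p.IsPrime → p.height ≤ 1 → a ∉ p ∨ b ∉ p)
    (hgood : ∀ (p : Ideal T) [p.IsPrime], p.height ≤ 1 → TauTriv.Good D p) :
    Purity.TwoWith a b T ∧ Purity.TwoWith a b (integralClosure T D) := by
  classical
  haveI : Module.Finite K D := Algebra.FormallyUnramified.finite_of_free K D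
  have key : ∀ x : K, (∃ r, algebraMap T K a * x = algebraMap T K r) → (∃ r, algebraMap T K b * x = algebraMap T K r) →
      ∃ r, algebraMap T K r = x := fun x ⟨r, hr⟩ ⟨s, hs⟩ =>
    TauTriv.exists_eq_of_forall_height_le_one x fun p hp hp1 => (hab p hp hp1).elim
      (fun h => ⟨a, h, r, hr⟩) (fun h => ⟨b, h, s, hs⟩)
  have haK : algebraMap T K a ≠ 0 := (map_ne_zero_iff _ (IsFractionRing.injective T K)).2 ha
  refine ⟨⟨fun m hm => (mul_eq_zero.1 hm).resolve_left ha, fun m n hmn => ?_⟩, ⟨fun m hm => ?_, fun m n hmn => ?_⟩⟩
  · obtain ⟨r, hr⟩ := key (algebraMap T K m / algebraMap T K a) ⟨m, mul_div_cancel₀ _ haK⟩ ⟨n, by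
      rw [← mul_div_assoc, div_eq_iff haK, ← map_mul, ← map_mul, show b * m = n * a from hmn.trans (mul_comm a n)]⟩
    refine ⟨r, IsFractionRing.injective T K ?_⟩
    rw [smul_eq_mul, map_mul, hr, mul_div_cancel₀ _ haK]
  · have h1 : algebraMap K D (algebraMap T K a) * (m : D) = 0 := by
      rw [← IsScalarTower.algebraMap_apply T K D, ← Algebra.smul_def]
      exact congrArg Subtype.val hm
    exact Subtype.ext (((isUnit_iff_ne_zero.2 haK).map (algebraMap K D)).mul_right_eq_zero.1 h1)
  · let z : D := (algebraMap T K a)⁻¹ • (m : D)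
    have hza : a • z = m := by rw [← IsScalarTower.algebraMap_smul K a z, smul_smul, mul_inv_cancel₀ haK, one_smul]
    have hzb : b • z = n := by
      rw [← IsScalarTower.algebraMap_smul K b z, smul_comm, IsScalarTower.algebraMap_smul,
        show (b • (m : D)) = a • (n : D) from congrArg Subtype.val hmn, ← IsScalarTower.algebraMap_smul K a (n : D),
        smul_smul, inv_mul_cancel₀ haK, one_smul]
    let C := integralClosure T D
    have hf : ∀ c : C, ∃ r, algebraMap T K r = Algebra.trace K D (z * c) := fun c => by
      refine key _ ⟨TauTriv.tr K D (m * c), ?_⟩ ⟨TauTriv.tr K D (n * c), ?_⟩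
      · rw [TauTriv.tr_spec, ← smul_eq_mul, ← map_smul, IsScalarTower.algebraMap_smul, ← smul_mul_assoc, hza]; rfl
      · rw [TauTriv.tr_spec, ← smul_eq_mul, ← map_smul, IsScalarTower.algebraMap_smul, ← smul_mul_assoc, hzb]; rfl
    choose f hf using hf
    let fl : C →ₗ[T] T :=
      { toFun := f
        map_add' := fun x y => IsFractionRing.injective T K (by
          rw [map_add, hf, hf, hf, ← map_add, ← mul_add]; rfl)
        map_smul' := fun r x => IsFractionRing.injective T K (by
          rw [RingHom.id_apply, smul_eq_mul, map_mul, hf, hf,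
            show z * ((r • x : C) : D) = r • (z * (x : D)) from mul_smul_comm r z (x : D),
            ← IsScalarTower.algebraMap_smul K r (z * (x : D)), map_smul, smul_eq_mul]) }
    obtain ⟨z', hz'⟩ := TauTriv.exists_tr_mul_eq K D hgood fl
    have hzz : (z' : D) = z := by
      refine (QFDualLib.traceForm_bijective K D).1 (LinearMap.ext fun x => ?_)
      obtain ⟨r, hr0, c, hc⟩ := TauTriv.exists_smul_mem (R := T) K D x
      have h1 : Algebra.trace K D ((z' : D) * c) = Algebra.trace K D (z * c) := by
        rw [show (z' : D) * c = ((z' * c : C) : D) from rfl, ← TauTriv.tr_spec, hz']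
        exact hf c
      rw [← hc, IsScalarTower.algebraMap_apply T K D, ← Algebra.smul_def, mul_smul_comm, mul_smul_comm, map_smul,
        map_smul] at h1
      rw [Algebra.traceForm_apply, Algebra.traceForm_apply]
      exact smul_right_injective K ((map_ne_zero_iff _ (IsFractionRing.injective T K)).2 hr0) h1
    refine ⟨z', Subtype.ext ?_⟩
    show (m : D) = a • (z' : D)
    rw [hzz, hza]

include K in
/-- Purity at a regular local ring of dimension two. -/
theorem good_of_dim_two [IsRegularLocalRing T] (hdim : ringKrullDim T = 2) (a b : T) (ha : a ≠ 0)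
    (hmax : maximalIdeal T = Ideal.span {a, b})
    (hgood : ∀ (p : Ideal T) [p.IsPrime], p.height ≤ 1 → TauTriv.Good D p) :
    Algebra.Etale T (integralClosure T D) ∧ Module.Finite T (integralClosure T D) := by
  classical
  haveI : Module.Finite T (integralClosure T D) := TauTriv.finite_integralClosure K D
  have hhtm : (maximalIdeal T).height = 2 := WithBot.coe_injective (by
    rw [IsLocalRing.maximalIdeal_height_eq_ringKrullDim, hdim]; rfl)
  have hlow : ∀ p : Ideal T, p.IsPrime → p ≠ maximalIdeal T → p.height ≤ 1 := fun p hp hne => by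
    have h1 := Ideal.height_strict_mono_of_isPrime (I := p) (lt_of_le_of_ne (IsLocalRing.le_maximalIdeal hp.ne_top) hne)
    rw [hhtm] at h1
    exact Order.le_of_lt_add_one (by exact_mod_cast h1)
  have ham : a ∈ maximalIdeal T := hmax ▸ Ideal.subset_span (Set.mem_insert _ _)
  have hbm : b ∈ maximalIdeal T := hmax ▸ Ideal.subset_span (Set.mem_insert_of_mem _ rfl)
  have hab : ∀ p : Ideal T, p.IsPrime → p.height ≤ 1 → a ∉ p ∨ b ∉ p := fun p hp hp1 => by
    by_contra hcon
    push_neg at hcon
    have hle : maximalIdeal T ≤ p := by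
      rw [hmax, Ideal.span_le]
      rintro x (rfl | rfl)
      exacts [hcon.1, hcon.2]
    have h2 := Ideal.height_mono hle
    rw [hhtm] at h2
    exact absurd (h2.trans hp1) (by norm_num)
  obtain ⟨hT, hC⟩ := twoWith_integralClosure T K D a b ha hab hgood
  refine ⟨Purity.etale_of_onPunct 0 T (by rw [hdim]; rfl) a b ham hbm hT _ hC fun f hf => ?_, inferInstance⟩
  haveI : Algebra.FinitePresentation T (integralClosure T D) := Algebra.FinitePresentation.of_finiteType.1 inferInstance
  refine Algebra.basicOpen_subset_etaleLocus_iff_etale.1 fun q hq => ?_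
  set p := q.asIdeal.comap (algebraMap T (integralClosure T D))
  have hp1 : p.height ≤ 1 := hlow p inferInstance fun heq => hq (by
    have : f ∈ p := heq ▸ hf
    exact this)
  haveI := (hgood p hp1).etale
  exact Purity.isEtaleAt_of_localization p q.asIdeal rfl

end Two

end Groth.Agent.HensLine
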