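import Groth.Agent.HensLine.Split
import Groth.Agent.HensLine.Galois
import Groth.Agent.TauTriv.Model
import Groth.Agent.ShSplit.Punctured
import Groth.Prelude.Def_SGA1t
import Mathlib

/-!
# Principal covers of the generic fibre of the henselised line
-/

set_option autoImplicit false
set_option linter.style.haveILetI false
set_option backward.isDefEq.respectTransparency false
set_option synthInstance.maxHeartbeats 400000
set_option maxHeartbeats 2000000

universe u

open CategoryTheory CategoryTheory.Limits AlgebraicGeometry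
open scoped TensorProduct

attribute [-instance] MvPowerSeries.instAlgebra MvPowerSeries.instModule

namespace Groth.Agent.HensLine

theorem exists_trivial (A : Type u) [CommRing A] [IsDomain A] [IsIntegrallyClosed A] [IsNoetherianRing A]
    [HenselianLocalRing A]
    (B : Type u) [CommRing B] [IsLocalRing B] [Algebra (Localization.AtPrime (origin A)) B]
    [IsLocalHom (algebraMap (Localization.AtPrime (origin A)) B)]
    [_root_.Hensel.IsHenselization (Localization.AtPrime (origin A)) B]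
    (φ : A →+* B) (hφ : φ = (fromPoly A B).comp Polynomial.C)
    (K Ω : Type u) [Field K] [Algebra A K] [IsFractionRing A K] [Field Ω] [IsSepClosed Ω] [Algebra K Ω]
    (G : Type u) [Group G] [Finite G] (hG : ∀ ℓ : ℕ, ℓ.Prime → ℓ ∣ Nat.card G → (ℓ : IsLocalRing.ResidueField A) ≠ 0)
    (Z' : FEt.Cat (pullback (Spec.map (CommRingCat.ofHom φ)) (Spec.map (CommRingCat.ofHom (algebraMap A K)))))
    (ρ : G →* Aut Z') (hZ' : SGA1t.IsPrincipal G Z' ρ)
    (Zb : Scheme.{u}) (b₁ : Zb ⟶ Spec (CommRingCat.of B)) (b₂ : Zb ⟶ Spec (CommRingCat.of Ω))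
    (hZb : IsPullback b₁ b₂ (Spec.map (CommRingCat.ofHom φ))
      (Spec.map (CommRingCat.ofHom (algebraMap K Ω)) ≫ Spec.map (CommRingCat.ofHom (algebraMap A K))))
    (b : Zb ⟶ pullback (Spec.map (CommRingCat.ofHom φ)) (Spec.map (CommRingCat.ofHom (algebraMap A K))))
    (hb₁ : b ≫ pullback.fst (Spec.map (CommRingCat.ofHom φ)) (Spec.map (CommRingCat.ofHom (algebraMap A K))) = b₁)
    (hb₂ : b ≫ pullback.snd (Spec.map (CommRingCat.ofHom φ)) (Spec.map (CommRingCat.ofHom (algebraMap A K))) =
      b₂ ≫ Spec.map (CommRingCat.ofHom (algebraMap K Ω))) :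
    ∃ (n : ℕ) (e : ((FEt.restrict b).obj Z').left ≅ ∐ fun _ : Fin n => Zb),
      e.hom ≫ Sigma.desc (fun _ => 𝟙 Zb) = ((FEt.restrict b).obj Z').hom := by
  classical
  letI : Algebra A B := φ.toAlgebra
  have hAB : ∀ a, algebraMap A B a = fromPoly A B (Polynomial.C a) := fun a => by
    show φ a = _
    rw [hφ]; rfl
  let RK := B ⊗[A] K
  haveI : IsLocalization (Algebra.algebraMapSubmonoid B (nonZeroDivisors A)) RK := IsLocalization.tensor K (nonZeroDivisors A)
  haveI : IsFinite Z'.hom := Z'.prop.1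
  haveI : Etale Z'.hom := Z'.prop.2
  let z₀ : Spec (CommRingCat.of RK) ⟶
      pullback (Spec.map (CommRingCat.ofHom φ)) (Spec.map (CommRingCat.ofHom (algebraMap A K))) :=
    (pullbackSpecIso A B K).inv
  have hz₁ : z₀ ≫ pullback.fst (Spec.map (CommRingCat.ofHom φ)) (Spec.map (CommRingCat.ofHom (algebraMap A K))) =
      Spec.map (CommRingCat.ofHom (Algebra.TensorProduct.includeLeftRingHom : B →+* RK)) :=
    pullbackSpecIso_inv_fst A B K
  have hz₂ : z₀ ≫ pullback.snd (Spec.map (CommRingCat.ofHom φ)) (Spec.map (CommRingCat.ofHom (algebraMap A K))) =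
      Spec.map (CommRingCat.ofHom (Algebra.TensorProduct.includeRight : K →ₐ[A] RK).toRingHom) :=
    pullbackSpecIso_inv_snd A B K
  obtain ⟨E₀, _, _, a, hetE, hfinE, sq⟩ := TauTriv.exists_model Z'.hom RK z₀
  haveI := hetE
  haveI := hfinE
  let N := Nat.card G
  have hN : (N : IsLocalRing.ResidueField A) ≠ 0 := by
    intro h0
    obtain ⟨p, hp⟩ := CharP.exists (IsLocalRing.ResidueField A)
    rcases CharP.char_is_prime_or_zero (IsLocalRing.ResidueField A) p with hpp | hp0
    · exact hG p hpp ((CharP.cast_eq_zero_iff _ p _).1 h0) (CharP.cast_eq_zero _ p)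
    · subst hp0
      haveI := CharP.charP_to_charZero (IsLocalRing.ResidueField A)
      exact Nat.card_ne_zero.2 ⟨inferInstance, inferInstance⟩ (Nat.cast_eq_zero.1 h0)
  -- the action on the model
  let f₀ := Spec.map (CommRingCat.ofHom (algebraMap RK E₀))
  have hw : ∀ g : G, (a ≫ (ρ g).hom.left) ≫ Z'.hom = f₀ ≫ z₀ := fun g => by
    rw [Category.assoc]
    exact (congrArg (a ≫ ·) (Over.w (ρ g).hom.hom)).trans sq.w
  let e : G → (Spec (CommRingCat.of E₀) ⟶ Spec (CommRingCat.of E₀)) := fun g =>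
    sq.lift (a ≫ (ρ g).hom.left) f₀ (hw g)
  have he₁ : ∀ g, e g ≫ a = a ≫ (ρ g).hom.left := fun g => sq.lift_fst _ _ _
  have he₂ : ∀ g, e g ≫ f₀ = f₀ := fun g => sq.lift_snd _ _ _
  let ψ : G → (E₀ →ₐ[RK] E₀) := fun g =>
    { (Spec.preimage (e g)).hom with
      commutes' := fun x => by
        have h : CommRingCat.ofHom (algebraMap RK E₀) ≫ Spec.preimage (e g) =
            CommRingCat.ofHom (algebraMap RK E₀) := Spec.map_injective (by
          rw [Spec.map_comp, Spec.map_preimage]; exact he₂ g)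
        exact RingHom.congr_fun (congrArg CommRingCat.Hom.hom h) x }
  have hψ : ∀ g, Spec.map (CommRingCat.ofHom (ψ g).toRingHom) = e g := fun g => Spec.map_preimage (e g)
  have hψ1 : ψ 1 = AlgHom.id RK E₀ := by
    have h : Spec.map (CommRingCat.ofHom (ψ 1).toRingHom) =
        Spec.map (CommRingCat.ofHom (AlgHom.id RK E₀).toRingHom) := by
      rw [hψ]
      refine sq.hom_ext ?_ ?_
      · rw [he₁, map_one]
        show a ≫ 𝟙 _ = Spec.map (CommRingCat.ofHom (RingHom.id E₀)) ≫ a
        rw [show CommRingCat.ofHom (RingHom.id E₀) = 𝟙 _ from rfl, Spec.map_id, Category.comp_id, Category.id_comp]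
      · rw [he₂]
        show f₀ = Spec.map (CommRingCat.ofHom (RingHom.id E₀)) ≫ f₀
        rw [show CommRingCat.ofHom (RingHom.id E₀) = 𝟙 _ from rfl, Spec.map_id, Category.id_comp]
    exact AlgHom.ext fun x => RingHom.congr_fun (congrArg CommRingCat.Hom.hom (Spec.map_injective h)) x
  have hψmul : ∀ g h, ψ (g * h) = (ψ h).comp (ψ g) := fun g h => by
    have h' : Spec.map (CommRingCat.ofHom (ψ (g * h)).toRingHom) =
        Spec.map (CommRingCat.ofHom ((ψ h).comp (ψ g)).toRingHom) := by
      rw [show CommRingCat.ofHom ((ψ h).comp (ψ g)).toRingHom =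
        CommRingCat.ofHom (ψ g).toRingHom ≫ CommRingCat.ofHom (ψ h).toRingHom from rfl, Spec.map_comp, hψ, hψ, hψ]
      refine sq.hom_ext ?_ ?_
      · rw [he₁, Category.assoc, he₁, ← Category.assoc (e h), he₁, map_mul, Category.assoc]
        rfl
      · rw [he₂, Category.assoc, he₂, he₂]
    exact AlgHom.ext fun x => RingHom.congr_fun (congrArg CommRingCat.Hom.hom (Spec.map_injective h')) x
  have hgal : ∀ (L : Type u) [Field L] [Algebra B L] [IsFractionRing B L] [Algebra RK L] [IsScalarTower B RK L]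
      (F : Type u) [Field F] [Algebra L F] (φ' : L ⊗[RK] E₀ →ₐ[L] F), Function.Surjective φ' →
        IsGalois L F ∧ Nat.card (F ≃ₐ[L] F) ∣ N := by
    intro L _ _ _ _ _ F _ _ φ' hφ'
    haveI : Module.Finite L (L ⊗[RK] E₀) := inferInstance
    haveI : FiniteDimensional L F := Module.Finite.of_surjective φ'.toLinearMap hφ'
    haveI : Algebra.FormallyUnramified L F := Algebra.FormallyUnramified.of_surjective φ' hφ'
    haveI : Algebra.IsSeparable L F := Algebra.FormallyUnramified.isSeparable L F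
    let Ω₁ := AlgebraicClosure L
    let act : G → (L ⊗[RK] E₀ →ₐ[L] L ⊗[RK] E₀) := fun g =>
      Algebra.TensorProduct.map (AlgHom.id L L) (ψ g)
    refine galois_factor (Ω := Ω₁) act ?_ ?_ ?_ φ' hφ'
    · show Algebra.TensorProduct.map (AlgHom.id L L) (ψ 1) = _
      rw [hψ1]
      exact Algebra.TensorProduct.map_id
    · intro g h
      show Algebra.TensorProduct.map (AlgHom.id L L) (ψ (g * h)) =
        (Algebra.TensorProduct.map (AlgHom.id L L) (ψ h)).comp (Algebra.TensorProduct.map (AlgHom.id L L) (ψ g))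
      rw [hψmul]
      exact Algebra.TensorProduct.ext (AlgHom.ext fun _ => rfl) (AlgHom.ext fun _ => rfl)
    · let res : (L ⊗[RK] E₀ →ₐ[L] Ω₁) → (E₀ →ₐ[RK] Ω₁) := fun σ =>
        (σ.restrictScalars RK).comp Algebra.TensorProduct.includeRight
      let k₀ := Spec.map (CommRingCat.ofHom (algebraMap RK Ω₁))
      let pt : (E₀ →ₐ[RK] Ω₁) → (Spec (CommRingCat.of Ω₁) ⟶ Spec (CommRingCat.of E₀)) := fun σ =>
        Spec.map (CommRingCat.ofHom σ.toRingHom)
      have hpt : ∀ σ, pt σ ≫ f₀ = k₀ := fun σ => by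
        show Spec.map _ ≫ Spec.map _ = Spec.map _
        rw [← Spec.map_comp]
        exact congrArg Spec.map (CommRingCat.hom_ext σ.comp_algebraMap)
      let s : (E₀ →ₐ[RK] Ω₁) → FEt.fiberObj (k₀ ≫ z₀) Z' := fun σ => ⟨pt σ ≫ a, by
        rw [Category.assoc, sq.w, ← Category.assoc, hpt]⟩
      intro σ τ
      have key : ∀ g, σ.comp (act g) = τ ↔ (FEt.fiber (k₀ ≫ z₀)).map (ρ g).hom (s (res σ)) = s (res τ) := by
        intro g
        constructor
        · rintro rfl
          refine Subtype.ext ?_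
          show (pt (res σ) ≫ a) ≫ (ρ g).hom.left = pt (res (σ.comp (act g))) ≫ a
          rw [Category.assoc, ← he₁, ← hψ, ← Category.assoc]
          refine congrArg (· ≫ a) ?_
          show Spec.map _ ≫ Spec.map _ = Spec.map _
          rw [← Spec.map_comp]
          exact congrArg Spec.map (CommRingCat.hom_ext (RingHom.ext fun x => by
            show σ ((1 : L) ⊗ₜ[RK] ψ g x) = σ (act g ((1 : L) ⊗ₜ[RK] x))
            rfl))
        · intro h
          have h1 : (pt (res σ) ≫ a) ≫ (ρ g).hom.left = pt (res τ) ≫ a := congrArg Subtype.val h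
          have h2 : pt (res σ) ≫ e g = pt (res τ) := by
            refine sq.hom_ext ?_ ?_
            · rw [Category.assoc, he₁, ← Category.assoc, h1]
            · rw [Category.assoc, he₂, hpt, hpt]
          rw [← hψ] at h2
          have h3 := h2
          simp only [pt] at h3
          rw [← Spec.map_comp] at h3
          refine Algebra.TensorProduct.ext (AlgHom.ext fun l => ?_) (AlgHom.ext fun x => ?_)
          · simp [act]
            exact (σ.commutes l).trans (τ.commutes l).symm
          · exact RingHom.congr_fun (congrArg CommRingCat.Hom.hom (Spec.map_injective h3)) x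
      obtain ⟨g, hg, hu⟩ := hZ'.2 Ω₁ (k₀ ≫ z₀) (s (res σ)) (s (res τ))
      exact ⟨g, (key g).2 hg, fun g' hg' => hu g' ((key g').1 hg')⟩
  obtain ⟨T, _, _, _, _, d, ⟨θ⟩, hhom⟩ := exists_split A B hAB K RK E₀ N hN hgal
  letI : Algebra A Ω := ((algebraMap K Ω).comp (algebraMap A K)).toAlgebra
  haveI : IsScalarTower A K Ω := IsScalarTower.of_algebraMap_eq fun _ => rfl
  obtain ⟨h⟩ := hhom Ω ((algebraMap K Ω).injective.comp (IsFractionRing.injective A K))
  have hpb : IsPullback
      (Spec.map (CommRingCat.ofHom (Algebra.TensorProduct.includeLeftRingHom : B →+* B ⊗[A] Ω)))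
      (Spec.map (CommRingCat.ofHom (Algebra.TensorProduct.includeRight : Ω →ₐ[A] B ⊗[A] Ω).toRingHom))
      (Spec.map (CommRingCat.ofHom φ))
      (Spec.map (CommRingCat.ofHom (algebraMap K Ω)) ≫ Spec.map (CommRingCat.ofHom (algebraMap A K))) := by
    rw [← Spec.map_comp]
    exact isPullback_SpecMap_of_isPushout _ _ _ _ (CommRingCat.isPushout_tensorProduct A B Ω)
  let i := hZb.isoIsPullback _ _ hpb
  let q : Zb ⟶ Spec (CommRingCat.of T) := i.hom ≫ Spec.map (CommRingCat.ofHom h.toRingHom)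
  have hq : q ≫ Spec.map (CommRingCat.ofHom (algebraMap RK T)) ≫ z₀ = b := by
    refine pullback.hom_ext ?_ ?_
    · simp only [Category.assoc, hz₁, hb₁, q]
      rw [← Spec.map_comp, ← Spec.map_comp]
      refine (congrArg (i.hom ≫ ·) (congrArg Spec.map (CommRingCat.hom_ext (RingHom.ext fun x => ?_)))).trans
        (IsPullback.isoIsPullback_hom_fst _ _ hZb hpb)
      show h (algebraMap RK T (algebraMap B RK x)) = x ⊗ₜ[A] (1 : Ω)
      rw [← IsScalarTower.algebraMap_apply B RK T, AlgHom.commutes]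
      rfl
    · simp only [Category.assoc, hz₂, hb₂, q]
      rw [← IsPullback.isoIsPullback_hom_snd _ _ hZb hpb, Category.assoc]
      refine congrArg (i.hom ≫ ·) ?_
      rw [← Spec.map_comp, ← Spec.map_comp, ← Spec.map_comp]
      refine congrArg Spec.map (CommRingCat.hom_ext (IsLocalization.ringHom_ext (nonZeroDivisors A) (RingHom.ext fun x => ?_)))
      show h (algebraMap RK T ((1 : B) ⊗ₜ[A] algebraMap A K x)) = (1 : B) ⊗ₜ[A] algebraMap A Ω x
      rw [show (1 : B) ⊗ₜ[A] algebraMap A K x = algebraMap B RK (algebraMap A B x) by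
          show _ = algebraMap A B x ⊗ₜ[A] (1 : K)
          rw [Algebra.algebraMap_eq_smul_one (A := K), Algebra.algebraMap_eq_smul_one (A := B), TensorProduct.smul_tmul],
        ← IsScalarTower.algebraMap_apply B RK T, AlgHom.commutes]
      show algebraMap A B x ⊗ₜ[A] (1 : Ω) = _
      rw [Algebra.algebraMap_eq_smul_one (A := Ω), Algebra.algebraMap_eq_smul_one (A := B), TensorProduct.smul_tmul]
  -- the pullback is trivial
  obtain ⟨aT, sqT⟩ := TauTriv.exists_baseChange_model sq T
  let ι₁ := ULift.{u} (Fin d)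
  let se := Scheme.Spec.mapIso (θ.toRingEquiv.toCommRingCatIso.op)
  have sqT' : IsPullback (se.hom ≫ aT) (Spec.map (CommRingCat.ofHom (algebraMap T (ι₁ → T)))) Z'.hom
      (Spec.map (CommRingCat.ofHom (algebraMap RK T)) ≫ z₀) := by
    refine sqT.of_iso se.symm (Iso.refl _) (Iso.refl _) (Iso.refl _) (by simp) ?_ (by simp) (by simp)
    simp only [Iso.refl_hom, Category.comp_id]
    show Spec.map _ = Spec.map (CommRingCat.ofHom θ.symm.toRingEquiv.toRingHom) ≫
      Spec.map (CommRingCat.ofHom (algebraMap T (ι₁ → T)))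
    rw [← Spec.map_comp]
    exact congrArg Spec.map (CommRingCat.hom_ext (RingHom.ext fun x => (θ.symm.commutes x).symm))
  obtain ⟨at₀, ht₀⟩ := TauTriv.exists_trivial_model (X := Spec (CommRingCat.of T)) d T (𝟙 _)
  haveI : IsIso at₀ := ht₀.isIso_fst_of_isIso
  let r : ∀ (X : Scheme.{u}), (∐ fun _ : ι₁ => X) ≅ ∐ fun _ : Fin d => X := fun X =>
    Limits.Sigma.reindex Equiv.ulift (fun _ : Fin d => X)
  have hr : ∀ X, (r X).hom ≫ (Limits.Sigma.desc fun _ : Fin d => 𝟙 X) = Limits.Sigma.desc fun _ => 𝟙 X := fun X =>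
    Limits.Sigma.hom_ext _ _ fun j => by
      rw [Limits.Sigma.ι_desc, ← Category.assoc]
      exact (congrArg (· ≫ (Limits.Sigma.desc fun _ : Fin d => 𝟙 X))
        (Limits.Sigma.ι_reindex_hom Equiv.ulift (fun _ : Fin d => X) j)).trans (Limits.Sigma.ι_desc _ _)
  have sqS : IsPullback ((r _).hom ≫ inv at₀ ≫ se.hom ≫ aT)
      (Limits.Sigma.desc fun _ : ι₁ => 𝟙 (Spec (CommRingCat.of T))) Z'.hom
      (Spec.map (CommRingCat.ofHom (algebraMap RK T)) ≫ z₀) := by
    refine sqT'.of_iso ((asIso at₀) ≪≫ (r _).symm) (Iso.refl _) (Iso.refl _) (Iso.refl _) ?_ ?_ (by simp) (by simp)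
    · simp
    · simp only [Iso.refl_hom, Category.comp_id, Iso.trans_hom, asIso_hom, Iso.symm_hom, Category.assoc]
      rw [← hr, Iso.inv_hom_id_assoc]
      exact (ht₀.w.trans (Category.comp_id _)).symm
  obtain ⟨qs, hqs⟩ := ShSplit.exists_isPullback_sigma q ι₁
  have sqZ := hqs.paste_horiz sqS
  rw [hq] at sqZ
  let e₁ := (IsPullback.of_hasPullback Z'.hom b).isoIsPullback _ _ sqZ
  refine ⟨d, e₁ ≪≫ r Zb, ?_⟩
  show (e₁ ≪≫ r Zb).hom ≫ _ = pullback.snd Z'.hom b
  rw [Iso.trans_hom, Category.assoc, hr]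
  exact IsPullback.isoIsPullback_hom_snd _ _ (IsPullback.of_hasPullback Z'.hom b) sqZ

end Groth.Agent.HensLine
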