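import Groth.Agent.HensLine.Ring
import Groth.Agent.Hensel.Fibres
import Groth.Agent.Hensel.Henselization
import Groth.Agent.EssSub.NormGen
import Groth.Agent.Nagata.Japanese
import Groth.Agent.S2656
import Mathlib

/-!
# Noetherian normal henselian stages of a normal henselian domain
-/

set_option autoImplicit false
set_option linter.style.haveILetI false
set_option backward.isDefEq.respectTransparency false
set_option synthInstance.maxHeartbeats 400000
set_option maxHeartbeats 2000000

universe u

open IsLocalRing Polynomial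
open scoped TensorProduct

attribute [-instance] MvPowerSeries.instAlgebra MvPowerSeries.instModule

namespace Groth.Agent.HensLine

variable (A : Type u) [CommRing A] [IsDomain A] [IsIntegrallyClosed A] [HenselianLocalRing A]
  (K : Type u) [Field K] [Algebra A K] [IsFractionRing A K]

/-- The normalisation of the subring generated by a finite set, inside the ring. -/
def stageRing (s : Finset A) : Subring A :=
  (integralClosure (Algebra.adjoin ℤ (s : Set A)) A).toSubring ⊓
    (Subfield.closure (algebraMap A K '' (s : Set A))).toSubring.comap (algebraMap A K)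

omit [IsDomain A] [IsIntegrallyClosed A] [HenselianLocalRing A] [IsFractionRing A K] in
theorem subset_stageRing (s : Finset A) {a : A} (ha : a ∈ s) : a ∈ stageRing A K s :=
  ⟨isIntegral_algebraMap (x := (⟨a, Algebra.subset_adjoin ha⟩ : Algebra.adjoin ℤ (s : Set A))),
    Subfield.subset_closure ⟨a, ha, rfl⟩⟩

omit [IsDomain A] [IsIntegrallyClosed A] [HenselianLocalRing A] [IsFractionRing A K] in
theorem stageRing_mono {s t : Finset A} (h : s ⊆ t) : stageRing A K s ≤ stageRing A K t := fun x hx => by
  refine ⟨?_, Subfield.closure_mono (Set.image_mono (Finset.coe_subset.2 h)) hx.2⟩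
  have hle : Algebra.adjoin ℤ (s : Set A) ≤ Algebra.adjoin ℤ (t : Set A) := Algebra.adjoin_mono (Finset.coe_subset.2 h)
  letI : Algebra (Algebra.adjoin ℤ (s : Set A)) (Algebra.adjoin ℤ (t : Set A)) := (Subalgebra.inclusion hle).toAlgebra
  haveI : IsScalarTower (Algebra.adjoin ℤ (s : Set A)) (Algebra.adjoin ℤ (t : Set A)) A :=
    IsScalarTower.of_algebraMap_eq fun _ => rfl
  exact IsIntegral.tower_top (A := (Algebra.adjoin ℤ (t : Set A))) (show IsIntegral (Algebra.adjoin ℤ (s : Set A)) x from hx.1)

/-- Integers form a Nagata ring, in any universe. -/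
theorem isNagata_int : CAlg.IsNagata (ULift.{u} ℤ) := by
  haveI : IsPrincipalIdealRing (ULift.{u} ℤ) :=
    IsPrincipalIdealRing.of_surjective (ULift.ringEquiv.symm : ℤ ≃+* ULift.{u} ℤ).toRingHom
      (ULift.ringEquiv.symm : ℤ ≃+* ULift.{u} ℤ).surjective
  haveI : IsDomain (ULift.{u} ℤ) := (ULift.ringEquiv : ULift.{u} ℤ ≃+* ℤ).toMulEquiv.isDomain ℤ
  haveI : CharZero (ULift.{u} ℤ) := ⟨fun a b h => by simpa using congrArg ULift.down h⟩
  exact Groth.Agent.S2656.result (ULift.{u} ℤ)

include K in
/-- The stage rings are normal, Noetherian and finitely generated. -/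
theorem stageRing_props (s : Finset A) :
    IsIntegrallyClosed (stageRing A K s) ∧ IsNoetherianRing (stageRing A K s) := by
  classical
  set Z := Algebra.adjoin ℤ (s : Set A) with hZ
  haveI : Algebra.FiniteType ℤ Z := (Subalgebra.fg_iff_finiteType _).1 ⟨s, rfl⟩
  haveI : IsNoetherianRing Z := Algebra.FiniteType.isNoetherianRing ℤ Z
  letI : Algebra (ULift.{u} ℤ) Z := ((algebraMap ℤ Z).comp (ULift.ringEquiv : ULift.{u} ℤ ≃+* ℤ).toRingHom).toAlgebra
  haveI : Algebra.FiniteType (ULift.{u} ℤ) Z := RingHom.finiteType_algebraMap.1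
    (RingHom.FiniteType.comp (RingHom.finiteType_algebraMap.2 inferInstance)
      (RingHom.FiniteType.of_surjective _ (ULift.ringEquiv : ULift.{u} ℤ ≃+* ℤ).surjective))
  have hNag : CAlg.IsNagata Z := Nagata.isNagata_of_finiteType (R := ULift.{u} ℤ) isNagata_int
  set F := Subfield.closure (algebraMap A K '' (s : Set A)) with hF
  have hAK := IsFractionRing.injective A K
  have hZF : ∀ z : Z, algebraMap A K z ∈ F := fun z => by
    obtain ⟨z, hz⟩ := z
    induction hz using Algebra.adjoin_induction with
    | mem x hx => exact Subfield.subset_closure ⟨x, hx, rfl⟩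
    | algebraMap r => simp
    | add x y _ _ hx hy => simpa using add_mem hx hy
    | mul x y _ _ hx hy => simpa using mul_mem hx hy
  let iF : Z →+* F := ((algebraMap A K).comp Z.val.toRingHom).codRestrict F hZF
  have hiF : Function.Injective iF := fun x y h => Subtype.ext (hAK (congrArg Subtype.val h))
  letI : Algebra Z F := iF.toAlgebra
  haveI : FaithfulSMul Z F := (faithfulSMul_iff_algebraMap_injective Z F).2 hiF
  haveI : IsFractionRing Z F := by
    refine IsFractionRing.of_field Z F fun x => ?_
    obtain ⟨x, hx⟩ := x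
    suffices h : ∃ a b : Z, algebraMap A K b ≠ 0 ∧ x * algebraMap A K b = algebraMap A K a by
      obtain ⟨a, b, hb, hab⟩ := h
      refine ⟨a, b, Subtype.ext ?_⟩
      show x = algebraMap A K a / algebraMap A K b
      rw [← hab, mul_div_assoc, div_self hb, mul_one]
    induction hx using Subfield.closure_induction with
    | mem x hx =>
      obtain ⟨a, ha, rfl⟩ := hx
      exact ⟨⟨a, Algebra.subset_adjoin ha⟩, 1, by simp, by simp⟩
    | one => exact ⟨1, 1, by simp, by simp⟩
    | add x y _ _ hx hy =>
      obtain ⟨a, b, hb, hab⟩ := hx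
      obtain ⟨c, d, hd, hcd⟩ := hy
      exact ⟨a * d + c * b, b * d, by simp [hb, hd], by push_cast; simp only [map_add, map_mul, ← hab, ← hcd]; ring⟩
    | neg x _ hx =>
      obtain ⟨a, b, hb, hab⟩ := hx
      exact ⟨-a, b, hb, by rw [neg_mul, hab, NegMemClass.coe_neg, map_neg]⟩
    | inv x _ hx =>
      obtain ⟨a, b, hb, hab⟩ := hx
      rcases eq_or_ne x 0 with rfl | hx0
      · exact ⟨0, 1, by simp, by simp⟩
      · exact ⟨b, a, by rw [← hab]; exact mul_ne_zero hx0 hb, by rw [← hab, inv_mul_cancel_left₀ hx0]⟩
    | mul x y _ _ hx hy =>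
      obtain ⟨a, b, hb, hab⟩ := hx
      obtain ⟨c, d, hd, hcd⟩ := hy
      exact ⟨a * c, b * d, by simp [hb, hd], by push_cast; simp only [map_mul, ← hab, ← hcd]; ring⟩
  letI : Algebra (FractionRing Z) F := FractionRing.liftAlgebra Z F
  haveI : IsScalarTower Z (FractionRing Z) F := FractionRing.isScalarTower_liftAlgebra Z F
  haveI : Module.Finite (FractionRing Z) F := by
    refine Module.Finite.of_surjective (Algebra.linearMap (FractionRing Z) F) fun x => ?_
    obtain ⟨a, b, -, rfl⟩ := IsFractionRing.div_surjective (A := Z) x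
    refine ⟨algebraMap Z (FractionRing Z) a / algebraMap Z (FractionRing Z) b, ?_⟩
    rw [Algebra.linearMap_apply, map_div₀, ← IsScalarTower.algebraMap_apply, ← IsScalarTower.algebraMap_apply]
  haveI hfin : Module.Finite Z (integralClosure Z F) := EssSub.finite_integralClosure_field Z F hNag
  let N := stageRing A K s
  let iN : N →+* F := ((algebraMap A K).comp N.subtype).codRestrict F fun x => x.2.2
  have hiN : Function.Injective iN := fun x y h => Subtype.ext (hAK (congrArg Subtype.val h))
  let iK : F →ₐ[Z] K := { F.subtype with commutes' := fun _ => rfl }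
  have hint : ∀ y : F, IsIntegral Z y → ∃ x : N, iN x = y := by
    intro y hy
    have hyK : IsIntegral Z (y : K) := hy.map iK
    obtain ⟨a, ha⟩ := IsIntegrallyClosed.isIntegral_iff.1 (hyK.tower_top (A := A))
    refine ⟨⟨a, ?_, ?_⟩, Subtype.ext ha⟩
    · show IsIntegral Z a
      exact (isIntegral_algHom_iff (IsScalarTower.toAlgHom Z A K) hAK).1 (by
        show IsIntegral Z (algebraMap A K a); rw [ha]; exact hyK)
    · show algebraMap A K a ∈ F
      rw [ha]; exact y.2
  have hint' : ∀ x : N, IsIntegral Z (iN x) := fun x =>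
    (isIntegral_algHom_iff iK Subtype.val_injective).1
      ((show IsIntegral Z (x : A) from x.2.1).map (IsScalarTower.toAlgHom Z A K))
  letI : Algebra Z N := ((algebraMap Z A).codRestrict N fun z => by
    exact ⟨show IsIntegral Z (algebraMap Z A z) from isIntegral_algebraMap, hZF z⟩).toAlgebra
  letI : Algebra N F := iN.toAlgebra
  haveI : FaithfulSMul N F := (faithfulSMul_iff_algebraMap_injective N F).2 hiN
  haveI : IsScalarTower Z N F := IsScalarTower.of_algebraMap_eq fun _ => rfl
  let f : integralClosure Z F →ₐ[Z] N :=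
    { toFun := fun y => (hint y y.2).choose
      map_one' := hiN (by rw [(hint _ (1 : integralClosure Z F).2).choose_spec, map_one]; rfl)
      map_mul' := fun x y => hiN (by
        rw [map_mul, (hint _ x.2).choose_spec, (hint _ y.2).choose_spec, (hint _ (x * y).2).choose_spec]; rfl)
      map_zero' := hiN (by rw [(hint _ (0 : integralClosure Z F).2).choose_spec, map_zero]; rfl)
      map_add' := fun x y => hiN (by
        rw [map_add, (hint _ x.2).choose_spec, (hint _ y.2).choose_spec, (hint _ (x + y).2).choose_spec]; rfl)
      commutes' := fun z => hiN (by rw [(hint _ (algebraMap Z (integralClosure Z F) z).2).choose_spec]; rfl) }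
  have hf : Function.Surjective f := fun x => ⟨⟨iN x, hint' x⟩, hiN (hint _ (hint' x)).choose_spec⟩
  haveI : Module.Finite Z N := Module.Finite.of_surjective f.toLinearMap hf
  refine ⟨?_, IsNoetherianRing.of_finite Z N⟩
  haveI : IsFractionRing N F := by
    refine IsFractionRing.of_field N F fun x => ?_
    obtain ⟨a, b, -, rfl⟩ := IsFractionRing.div_surjective (A := Z) x
    exact ⟨algebraMap Z N a, algebraMap Z N b, by rw [← IsScalarTower.algebraMap_apply, ← IsScalarTower.algebraMap_apply]⟩
  refine (isIntegrallyClosed_iff F).2 fun {y} hy => ?_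
  haveI : Algebra.IsIntegral Z N := Algebra.IsIntegral.of_finite Z N
  exact hint y (isIntegral_trans y hy)

/-- A Noetherian normal henselian stage. -/
structure Stage (s : Finset A) where
  H : Type u
  [commRing : CommRing H]
  [isDomain : IsDomain H]
  [normal : IsIntegrallyClosed H]
  [noeth : IsNoetherianRing H]
  [hens : HenselianLocalRing H]
  j : H →+* A
  inj : Function.Injective j
  isLocal : IsLocalHom j
  mem : ∀ x ∈ stageRing A K s, ∃ h, j h = x
  univ : ∀ (T : Type u) [CommRing T] [HenselianLocalRing T] (jT : T →+* A), Function.Injective jT → IsLocalHom jT →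
    (∀ x ∈ stageRing A K s, ∃ t, jT t = x) → ∃ f : H →+* T, jT.comp f = j

attribute [instance] Stage.commRing Stage.isDomain Stage.normal Stage.noeth Stage.hens Stage.isLocal

include K in
theorem nonempty_stage (s : Finset A) : Nonempty (Stage A K s) := by
  obtain ⟨hn, hnoe⟩ := stageRing_props A K s
  haveI := hn
  haveI := hnoe
  let N := stageRing A K s
  let p : Ideal N := (maximalIdeal A).comap N.subtype
  haveI : p.IsPrime := Ideal.IsPrime.comap _
  let L := Localization.AtPrime p
  haveI : IsDomain L := IsLocalization.isDomain_localization p.primeCompl_le_nonZeroDivisors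
  haveI : IsIntegrallyClosed L := isIntegrallyClosed_of_isLocalization L p.primeCompl p.primeCompl_le_nonZeroDivisors
  haveI : IsNoetherianRing L := IsLocalization.isNoetherianRing p.primeCompl L inferInstance
  let jL : L →+* A := IsLocalization.lift (M := p.primeCompl) (g := N.subtype) fun y => notMem_maximalIdeal.1 y.2
  have hjL : ∀ x, jL (algebraMap N L x) = x := fun x => IsLocalization.lift_eq _ x
  haveI hjLloc : IsLocalHom jL := by
    refine ⟨fun x hx => ?_⟩
    obtain ⟨a, t, rfl⟩ := IsLocalization.exists_mk'_eq p.primeCompl x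
    rw [IsLocalization.AtPrime.isUnit_mk'_iff L p]
    have h1 : IsUnit (N.subtype a) := by
      show IsUnit (a : A)
      rw [← hjL, ← IsLocalization.mk'_spec L a t, map_mul]
      exact hx.mul (by rw [hjL]; exact notMem_maximalIdeal.1 t.2)
    exact notMem_maximalIdeal.2 h1
  have hjLinj : Function.Injective jL := (IsLocalization.lift_injective_iff _).2 fun x y =>
    ⟨fun h => by rw [IsLocalization.injective L p.primeCompl_le_nonZeroDivisors h], fun h => by rw [Subtype.val_injective h]⟩
  obtain ⟨H, _, _, _, hloc, hHens⟩ : ∃ (H : Type u) (_ : CommRing H) (_ : IsLocalRing H) (_ : Algebra L H)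
      (_ : IsLocalHom (algebraMap L H)), _root_.Hensel.IsHenselization L H := by
    obtain ⟨hloc, hHens⟩ := Hensel.exists_henselization L
    exact ⟨Hensel.Env L (ResidueField L), inferInstance, inferInstance, inferInstance, hloc, hHens⟩
  haveI := hHens
  haveI : HenselianLocalRing H := _root_.Hensel.IsHenselization.henselian (R := L)
  obtain ⟨hd, hic⟩ := (Hensel.henselization_normal_iff L H).1 ⟨inferInstance, inferInstance⟩
  have hHnoe : IsNoetherianRing H := (Hensel.henselization_isNoetherianRing_iff L H).1 inferInstance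
  obtain ⟨j, hj, hju⟩ := hHens.universal A jL hjLloc
  have hj' : ∀ x, j (algebraMap L H x) = jL x := RingHom.congr_fun hj
  have hinj : Function.Injective j := by
    haveI : (RingHom.ker j).IsPrime := RingHom.ker_isPrime j
    have hbot : (RingHom.ker j).comap (algebraMap L H) = ⊥ := by
      rw [eq_bot_iff]
      intro x hx
      exact (Ideal.mem_bot).2 (hjLinj (((hj' x).symm.trans hx).trans (map_zero _).symm))
    rw [injective_iff_map_eq_zero]
    intro z hz
    obtain ⟨t, ht, htz⟩ := Hensel.henselization_unramifiedFibres L H (RingHom.ker j) inferInstance z hz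
    rw [hbot, Ideal.map_bot, Ideal.mem_bot] at htz
    exact (mul_eq_zero.1 htz).resolve_left fun h => ht (h ▸ zero_mem _)
  have hlocj : IsLocalHom j := by
    refine ⟨fun x hx => by_contra fun hnx => ?_⟩
    have h1 : x ∈ (maximalIdeal L).map (algebraMap L H) := by rw [Hensel.henselization_map_maximalIdeal]; exact hnx
    have h2 := Ideal.mem_map_of_mem j h1
    rw [Ideal.map_map, hj] at h2
    exact (Ideal.map_le_iff_le_comap.2 (fun m hm => map_nonunit jL m hm) : _ ≤ maximalIdeal A) h2 hx
  refine ⟨{ H := H
            isDomain := hd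
            normal := hic
            noeth := hHnoe
            j := j
            inj := hinj
            isLocal := hlocj
            mem := fun x hx => ⟨algebraMap L H (algebraMap N L ⟨x, hx⟩), by rw [hj', hjL]⟩
            univ := ?_ }⟩
  intro T _ _ jT hjT hjTloc hmem
  choose t ht using fun x : N => hmem x x.2
  let fN : N →+* T :=
    { toFun := t
      map_one' := hjT (by rw [ht, map_one]; rfl)
      map_mul' := fun x y => hjT (by rw [map_mul, ht, ht, ht]; rfl)
      map_zero' := hjT (by rw [ht, map_zero]; rfl)
      map_add' := fun x y => hjT (by rw [map_add, ht, ht, ht]; rfl) }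
  have hfN : ∀ x, jT (fN x) = x := ht
  let fL : L →+* T := IsLocalization.lift (M := p.primeCompl) (g := fN) fun y =>
    (isUnit_map_iff jT _).1 (by rw [hfN]; exact notMem_maximalIdeal.1 y.2)
  have hfL : jT.comp fL = jL := IsLocalization.ringHom_ext p.primeCompl (RingHom.ext fun x => by
    show jT (fL (algebraMap N L x)) = jL (algebraMap N L x)
    rw [hjL, show fL (algebraMap N L x) = fN x from IsLocalization.lift_eq _ x, hfN])
  haveI : IsLocalHom fL := ⟨fun x hx => hjLloc.map_nonunit x (by rw [← hfL]; exact hx.map jT)⟩
  obtain ⟨f, hf, -⟩ := _root_.Hensel.IsHenselization.universal (R := L) (S := H) T fL inferInstance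
  exact ⟨f, hju _ (by show (jT.comp f).comp (algebraMap L H) = jL; rw [RingHom.comp_assoc, hf, hfL])⟩

end Groth.Agent.HensLine
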