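import Groth.Agent.TauTriv.Split
import Groth.Agent.TauTriv.Model
import Groth.Agent.TauTriv.Ring
import Mathlib

/-!
# Algebra for covers of the henselised line
-/

set_option autoImplicit false
set_option linter.style.haveILetI false
set_option backward.isDefEq.respectTransparency false
set_option synthInstance.maxHeartbeats 400000
set_option maxHeartbeats 1000000

universe u

open IsLocalRing
open scoped TensorProduct

attribute [-instance] MvPowerSeries.instAlgebra MvPowerSeries.instModule

namespace Groth.Agent.HensLine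

/-- A finite étale algebra over a normal domain with split generic fibre is split. -/
theorem split_of_generic (T : Type u) [CommRing T] [IsDomain T] [IsIntegrallyClosed T]
    (L : Type u) [Field L] [Algebra T L] [IsFractionRing T L]
    (D : Type u) [CommRing D] [Algebra T D] [Algebra.Etale T D] [Module.Finite T D]
    {ι : Type u} [Fintype ι] (e : L ⊗[T] D ≃ₐ[L] (ι → L)) : Nonempty (D ≃ₐ[T] (ι → T)) := by
  classical
  let ψ : D →ₐ[T] (ι → L) := (e.toAlgHom.restrictScalars T).comp Algebra.TensorProduct.includeRight
  have hψinj : Function.Injective ψ := e.injective.comp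
    (Algebra.TensorProduct.includeRight_injective (IsFractionRing.injective T L))
  have hval : ∀ d i, ∃ t : T, algebraMap T L t = ψ d i := fun d i =>
    IsIntegrallyClosed.isIntegral_iff.1 ((IsIntegral.of_finite T d).map ((Pi.evalAlgHom T (fun _ : ι => L) i).comp ψ))
  choose t ht using hval
  let inc : (ι → T) →ₐ[T] (ι → L) := Pi.algHom T _ fun i => (Algebra.ofId T L).comp (Pi.evalAlgHom T (fun _ : ι => T) i)
  have hinc : Function.Injective inc := fun x y h => funext fun i => IsFractionRing.injective T L (congrFun h i)
  have htinc : ∀ d, inc (t d) = ψ d := fun d => funext fun i => ht d i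
  let Φ : D →ₐ[T] (ι → T) :=
    { toFun := t
      map_one' := hinc (by rw [htinc, map_one, map_one])
      map_mul' := fun a b => hinc (by rw [htinc, map_mul, map_mul, htinc, htinc])
      map_zero' := hinc (by rw [htinc, map_zero, map_zero])
      map_add' := fun a b => hinc (by rw [htinc, map_add, map_add, htinc, htinc])
      commutes' := fun r => hinc (by rw [htinc, AlgHom.commutes, AlgHom.commutes]) }
  have hΦ : ∀ d, inc (Φ d) = ψ d := htinc
  refine ⟨AlgEquiv.ofBijective Φ ⟨fun a b h => hψinj (by rw [← hΦ, ← hΦ, h]), fun y => ?_⟩⟩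
  have hy : IsIntegral T (inc y) := (IsIntegral.of_finite T y).map inc
  have h1 : IsIntegral T ((Algebra.TensorProduct.comm T L D) (e.symm (inc y))) :=
    (hy.map (e.symm.toAlgHom.restrictScalars T)).map (Algebra.TensorProduct.comm T L D).toAlgHom
  obtain ⟨z, hz⟩ := (TensorProduct.toIntegralClosure_bijective_of_smooth (R := T) (S := D) (B := L)).2 ⟨_, h1.tower_top⟩
  have key : ∀ z : D ⊗[T] integralClosure T L, ∃ b : D,
      Algebra.TensorProduct.map (AlgHom.id T D) (integralClosure T L).val z = b ⊗ₜ[T] (1 : L) := by
    intro z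
    induction z using TensorProduct.induction_on with
    | zero => exact ⟨0, by simp⟩
    | tmul b c =>
      obtain ⟨s, hs⟩ := IsIntegrallyClosed.isIntegral_iff.1 c.2
      refine ⟨s • b, ?_⟩
      rw [Algebra.TensorProduct.map_tmul, TensorProduct.smul_tmul, ← Algebra.algebraMap_eq_smul_one, hs]
      rfl
    | add x w hx hw =>
      obtain ⟨b, hb⟩ := hx
      obtain ⟨b', hb'⟩ := hw
      exact ⟨b + b', by rw [map_add, hb, hb', TensorProduct.add_tmul]⟩
  obtain ⟨b, hb⟩ := key z
  refine ⟨b, hinc ?_⟩
  rw [hΦ]
  show e ((1 : L) ⊗ₜ[T] b) = inc y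
  rw [← AlgEquiv.eq_symm_apply]
  exact ((Algebra.TensorProduct.comm T L D).injective
    ((show (Algebra.TensorProduct.comm T L D) (e.symm (inc y)) = b ⊗ₜ[T] (1 : L) by
      rw [← hb]; exact (congrArg Subtype.val hz).symm).trans (by simp))).symm

/-- A finite étale algebra over a henselian local ring with split closed fibre is split. -/
theorem split_of_residue (T : Type u) [CommRing T] [HenselianLocalRing T]
    (C : Type u) [CommRing C] [Algebra T C] [Algebra.Etale T C] [Module.Finite T C]
    {I : Type u} [Fintype I] (e' : ResidueField T ⊗[T] C ≃ₐ[ResidueField T] (I → ResidueField T)) :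
    Nonempty (C ≃ₐ[T] (I → T)) := by
  classical
  let k := ResidueField T
  let σ : I → (C →ₐ[T] T ⧸ maximalIdeal T) := fun i =>
    (((Pi.evalAlgHom k (fun _ : I => k) i).comp e'.toAlgHom).restrictScalars T).comp Algebra.TensorProduct.includeRight
  choose τ hτ hτu using fun i => Hensel.existsUnique_algHom_lift (I := maximalIdeal T) (σ i)
  haveI : Module.Flat T (T ⊗[T] C) := inferInstance
  haveI : Module.Finite T (T ⊗[T] C) := inferInstance
  haveI : Module.FinitePresentation T C := Module.FinitePresentation.of_finite_of_finitePresentation T C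
  haveI : Module.Free T C := Module.free_of_flat_of_isLocalRing
  have h := TauTriv.bijective_pi_of_residue (R := T) (C := C) T k residue_surjective τ (by
    convert e'.bijective using 1
    funext z
    induction z using TensorProduct.induction_on with
    | zero => simp
    | tmul t c =>
      funext i
      show Algebra.TensorProduct.lift (Algebra.ofId k k) ((IsScalarTower.toAlgHom T T k).comp (τ i))
        (fun _ _ => Commute.all _ _) (t ⊗ₜ c) = e' (t ⊗ₜ c) i
      rw [Algebra.TensorProduct.lift_tmul, show t ⊗ₜ[T] c = t • ((1 : k) ⊗ₜ[T] c) by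
        rw [TensorProduct.smul_tmul', smul_eq_mul, mul_one], map_smul, Pi.smul_apply, smul_eq_mul]
      show t * residue T (τ i c) = t * e' (1 ⊗ₜ c) i
      exact congrArg (t * ·) (hτ i c)
    | add y w hy hw => simp only [map_add, hy, hw])
  exact ⟨(Algebra.TensorProduct.lid T C).symm.trans (AlgEquiv.ofBijective _ h)⟩

/-- Going down bounds heights of contractions. -/
theorem height_under_le {R S : Type u} [CommRing R] [CommRing S] [Algebra R S] [IsNoetherianRing R] [IsNoetherianRing S]
    [Algebra.HasGoingDown R S] (Q : Ideal S) [Q.IsPrime] : (Q.comap (algebraMap R S)).height ≤ Q.height := by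
  haveI : Q.LiesOver (Q.comap (algebraMap R S)) := ⟨rfl⟩
  exact le_of_le_of_eq le_self_add
    (Ideal.height_eq_height_add_of_liesOver_of_hasGoingDown (Q.comap (algebraMap R S)) Q).symm

variable {R : Type u} [CommRing R] [IsDomain R] [IsIntegrallyClosed R] [IsNoetherianRing R]
  (L : Type u) [Field L] [Algebra R L] [IsFractionRing R L]
  (E : Type u) [CommRing E] [Algebra L E] [Algebra R E] [IsScalarTower R L E] [Algebra.Etale L E]

/-- Localizations at primes of height at most one are principal ideal rings. -/
theorem isPrincipalIdealRing_atPrime (Q : Ideal R) [Q.IsPrime] (hQ : Q.height ≤ 1) :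
    IsPrincipalIdealRing (Localization.AtPrime Q) := by
  haveI : IsNoetherianRing (Localization.AtPrime Q) := IsLocalization.isNoetherianRing Q.primeCompl _ inferInstance
  haveI : IsIntegrallyClosed (Localization.AtPrime Q) :=
    isIntegrallyClosed_of_isLocalization _ Q.primeCompl Q.primeCompl_le_nonZeroDivisors
  haveI : IsDomain (Localization.AtPrime Q) := IsLocalization.isDomain_localization Q.primeCompl_le_nonZeroDivisors
  haveI : Ring.DimensionLEOne (Localization.AtPrime Q) := by
    refine ⟨fun {p} hp0 hp => ?_⟩
    have hdim : ringKrullDim (Localization.AtPrime Q) ≤ 1 := by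
      rw [IsLocalization.AtPrime.ringKrullDim_eq_height Q]
      exact_mod_cast hQ
    haveI := hp
    haveI : Ring.KrullDimLE 1 (Localization.AtPrime Q) := Ring.krullDimLE_iff.2 hdim
    exact Ring.krullDimLE_one_iff_of_noZeroDivisors.1 inferInstance p hp0 hp
  haveI : IsDedekindDomain (Localization.AtPrime Q) := { }
  infer_instance

attribute [local instance] Algebra.TensorProduct.rightAlgebra in
include L in
/-- Away from a proper closed subset the cover is good at every prime of height at most one. -/
theorem exists_ne_zero_good : ∃ d : R, d ≠ 0 ∧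
    ∀ (Q : Ideal R) [Q.IsPrime], Q.height ≤ 1 → d ∉ Q → TauTriv.Good E Q := by
  classical
  haveI : Module.Finite L E := Algebra.FormallyUnramified.finite_of_free L E
  let C := integralClosure R E
  haveI : Module.Finite R C := TauTriv.finite_integralClosure L E
  haveI : Algebra.FiniteType R C := inferInstance
  haveI : Module.Finite C Ω[C⁄R] := inferInstance
  haveI : Module.Finite R Ω[C⁄R] := Module.Finite.trans C _
  haveI : Algebra.Etale L (L ⊗[R] C) := Algebra.Etale.of_equiv (AlgEquiv.ofBijective _ (TauTriv.bijective_evT L E)).symm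
  haveI : Subsingleton Ω[(L ⊗[R] C)⁄L] := inferInstance
  have hL : Subsingleton (L ⊗[R] Ω[C⁄R]) := (KaehlerDifferential.tensorKaehlerEquivBase R L C (L ⊗[R] C)).toEquiv.subsingleton
  obtain ⟨s, hs⟩ := (Module.Finite.fg_top (R := R) (M := Ω[C⁄R]))
  have hkill : ∀ ω : Ω[C⁄R], ∃ d : R, d ≠ 0 ∧ d • ω = 0 := fun ω => by
    have h0 : (1 : L) ⊗ₜ[R] ω = 0 := Subsingleton.elim _ _
    haveI := (isLocalizedModule_iff_isBaseChange (nonZeroDivisors R) L
      (TensorProduct.mk R L Ω[C⁄R] 1)).2 (TensorProduct.isBaseChange R _ L)
    obtain ⟨d, hd⟩ := (IsLocalizedModule.eq_zero_iff (nonZeroDivisors R) (TensorProduct.mk R L Ω[C⁄R] 1)).1 h0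
    exact ⟨d, nonZeroDivisors.ne_zero d.2, hd⟩
  choose d hd0 hd using hkill
  refine ⟨∏ ω ∈ s, d ω, Finset.prod_ne_zero_iff.2 fun ω _ => hd0 ω, fun Q _ hQ hdQ => ?_⟩
  let T := Localization.AtPrime Q
  have hall : ∀ ω : Ω[C⁄R], (∏ ω ∈ s, d ω) • ω = 0 := fun ω => by
    have hmem : ω ∈ Submodule.span R (s : Set Ω[C⁄R]) := hs ▸ Submodule.mem_top
    induction hmem using Submodule.span_induction with
    | mem x hx => rw [← Finset.mul_prod_erase s d hx, mul_comm, mul_smul, hd, smul_zero]
    | zero => rw [smul_zero]
    | add x y _ _ hx hy => rw [smul_add, hx, hy, add_zero]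
    | smul a x _ hx => rw [smul_comm, hx, smul_zero]
  have hT : Subsingleton (T ⊗[R] Ω[C⁄R]) := by
    refine subsingleton_of_forall_eq 0 fun z => ?_
    induction z using TensorProduct.induction_on with
    | zero => rfl
    | tmul t ω =>
      obtain ⟨u, hu⟩ := IsLocalization.map_units T (⟨_, hdQ⟩ : Q.primeCompl)
      rw [show t = (∏ ω ∈ s, d ω) • (t * (↑u⁻¹ : T)) by
        rw [Algebra.smul_def, ← hu, mul_comm t, ← mul_assoc, Units.mul_inv, one_mul], TensorProduct.smul_tmul, hall,
        TensorProduct.tmul_zero]
    | add x y hx hy => rw [hx, hy, add_zero]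
  haveI : Algebra.FormallyUnramified T (T ⊗[R] C) :=
    ⟨(KaehlerDifferential.tensorKaehlerEquivBase R T C (T ⊗[R] C)).symm.toEquiv.subsingleton⟩
  haveI := isPrincipalIdealRing_atPrime Q hQ
  haveI : IsDomain T := IsLocalization.isDomain_localization Q.primeCompl_le_nonZeroDivisors
  haveI : Module.IsTorsionFree R E := Module.IsTorsionFree.trans_faithfulSMul R L E
  haveI : Module.IsTorsionFree R C := Function.Injective.moduleIsTorsionFree (Subtype.val : C → E) Subtype.val_injective
    (fun _ _ => rfl)
  haveI : Module.Flat R T := IsLocalization.flat T Q.primeCompl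
  haveI := (isLocalizedModule_iff_isBaseChange Q.primeCompl T
    (TensorProduct.mk R T C 1)).2 (TensorProduct.isBaseChange R C T)
  haveI : Module.IsTorsionFree T (T ⊗[R] C) :=
    IsLocalizedModule.isTorsionFree (TensorProduct.mk R T C 1) Q.primeCompl
  haveI : Module.Flat T (T ⊗[R] C) := by
    rw [IsDedekindDomain.flat_iff_torsion_eq_bot, ← Submodule.isTorsionFree_iff_torsion_eq_bot]
    infer_instance
  haveI : Algebra.FinitePresentation T (T ⊗[R] C) := Algebra.FinitePresentation.of_finiteType.1 inferInstance
  exact ⟨Algebra.Etale.of_formallyUnramified_of_flat, inferInstance⟩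

end Groth.Agent.HensLine
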